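/-
Involutions in Chevalley groups in characteristic two: weights of matrix entries.
-/
import Cfsg.Agent.Lib.ChevAut.Sylow
import Cfsg.Agent.Lib.Tw.WEq

set_option autoImplicit false

namespace Cfsg.Agent.Lib.Chev

open Cfsg.Lie

section

variable {F : Type*} [Field F] {D : ChevalleyDatum} {T : Tbl}

/-- The weight of a basis vector. -/
def wtI (π : ℕ → ℤ) : D.Idx → ℤ
  | Sum.inl _ => 0
  | Sum.inr s => π s.val

lemma AddF.add' {π ρ : ℕ → ℤ} (h1 : AddF D π) (h2 : AddF D ρ) : AddF D (fun w => π w + ρ w) := by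
  constructor
  · intro r hr
    simp only [h1.neg r hr, h2.neg r hr]
    ring
  · intro r s hr hs q hq
    simp only [h1.chain r s hr hs q hq, h2.chain r s hr hs q hq]
    ring

lemma AddF.smul' {π : ℕ → ℤ} (c : ℤ) (h1 : AddF D π) : AddF D (fun w => c * π w) := by
  constructor
  · intro r hr
    simp only [h1.neg r hr]
    ring
  · intro r s hr hs q hq
    simp only [h1.chain r s hr hs q hq]
    ring

/-- The weights of the entries of a root element. -/
lemma x_entry_wt (hS : Sane D) {r : ℕ} (hr : r < D.nroots) (t : F) {row col : D.Idx}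
    (h : (D.x F r t) row col ≠ 0) :
    row = col ∨ ∃ i : ℕ, 1 ≤ i ∧ ∀ π : ℕ → ℤ, AddF D π → wtI π row = wtI π col + i * π r := by
  by_cases e : row = col
  · exact Or.inl e
  right
  have h1 : (D.x F r t - 1) row col ≠ 0 := by
    rwa [Matrix.sub_apply, Matrix.one_apply_ne e, sub_zero]
  rcases x_sub_one_support hS hr t row col h1 with ⟨i, rfl, rfl⟩ | ⟨s, rfl, hs, h2⟩ | ⟨s, u, rfl, rfl, q, hq, e2⟩
  · exact ⟨1, le_rfl, fun π _ => by simp [wtI]⟩
  · rcases h2 with ⟨j, rfl⟩ | rfl
    · refine ⟨1, le_rfl, fun π hπ => ?_⟩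
      simp only [wtI, hs, hπ.neg r hr]
      simp
    · refine ⟨2, by omega, fun π hπ => ?_⟩
      simp only [wtI, hs, hπ.neg r hr]
      push_cast
      ring
  · refine ⟨q.2 + 1, by omega, fun π hπ => ?_⟩
    simp only [wtI]
    rw [← e2, hπ.chain r s hr s.2 q hq]
    push_cast
    ring

/-- The entries of elements of a group generated by root elements: any predicate on the pair of weights which is
stable under addition and holds on the multiples of the weights of the generating roots holds for every entry. -/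
lemma entry_psi (hG : T.Good2 D) {π₁ π₂ : ℕ → ℤ} (h₁ : AddF D π₁) (h₂ : AddF D π₂) (Ψ : ℤ × ℤ → Prop)
    (h0 : Ψ (0, 0)) (hadd : ∀ a b, Ψ a → Ψ b → Ψ (a + b)) {S : ℕ → Prop} (hSl : ∀ w, S w → w < D.nroots)
    (hgen : ∀ w, S w → ∀ i : ℕ, 1 ≤ i → Ψ (i * π₁ w, i * π₂ w)) {g : GL D.Idx F} (hg : g ∈ rootsGen D F S) :
    (∀ row col, (g : Matrix D.Idx D.Idx F) row col ≠ 0 →
      Ψ (wtI π₁ row - wtI π₁ col, wtI π₂ row - wtI π₂ col)) ∧
    (∀ row col, ((g⁻¹ : GL D.Idx F) : Matrix D.Idx D.Idx F) row col ≠ 0 →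
      Ψ (wtI π₁ row - wtI π₁ col, wtI π₂ row - wtI π₂ col)) := by
  have hm : ∀ (A B : Matrix D.Idx D.Idx F),
      (∀ row col, A row col ≠ 0 → Ψ (wtI π₁ row - wtI π₁ col, wtI π₂ row - wtI π₂ col)) →
      (∀ row col, B row col ≠ 0 → Ψ (wtI π₁ row - wtI π₁ col, wtI π₂ row - wtI π₂ col)) →
      ∀ row col, (A * B) row col ≠ 0 → Ψ (wtI π₁ row - wtI π₁ col, wtI π₂ row - wtI π₂ col) := by
    intro A B hA hB row col h
    rw [Matrix.mul_apply] at h
    obtain ⟨m, _, hmm⟩ := Finset.exists_ne_zero_of_sum_ne_zero h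
    have h1 := hA row m (left_ne_zero_of_mul hmm)
    have h2 := hB m col (right_ne_zero_of_mul hmm)
    have h3 := hadd _ _ h1 h2
    have e : (wtI π₁ row - wtI π₁ m, wtI π₂ row - wtI π₂ m) + (wtI π₁ m - wtI π₁ col, wtI π₂ m - wtI π₂ col) =
        (wtI π₁ row - wtI π₁ col, wtI π₂ row - wtI π₂ col) := by
      ext <;> simp
    rwa [e] at h3
  have hx : ∀ (w : ℕ) (hw : S w) (t : F) (row col : D.Idx), (D.x F w t) row col ≠ 0 →
      Ψ (wtI π₁ row - wtI π₁ col, wtI π₂ row - wtI π₂ col) := by
    intro w hw t row col h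
    rcases x_entry_wt hG.sane (hSl w hw) t h with rfl | ⟨i, hi, e⟩
    · simpa using h0
    · have := hgen w hw i hi
      rw [e π₁ h₁, e π₂ h₂]
      simpa using this
  induction hg using Subgroup.closure_induction with
  | mem g hg =>
    obtain ⟨w, t, hw, e⟩ := hg
    constructor
    · intro row col h
      rw [e] at h
      exact hx w hw t row col h
    · intro row col h
      have hG' : ((g⁻¹ : GL D.Idx F) : Matrix D.Idx D.Idx F) = D.x F w (-t) := by
        rw [hG.eq_xU (hSl w hw) e, hG.xU_inv]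
        rfl
      rw [hG'] at h
      exact hx w hw (-t) row col h
  | one =>
    constructor
    · intro row col h
      simp only [Units.val_one, Matrix.one_apply] at h
      split_ifs at h with e
      · subst e; simpa using h0
      · exact absurd rfl h
    · intro row col h
      simp only [inv_one, Units.val_one, Matrix.one_apply] at h
      split_ifs at h with e
      · subst e; simpa using h0
      · exact absurd rfl h
  | mul a b _ _ ha hb =>
    constructor
    · rw [Units.val_mul]
      exact hm _ _ ha.1 hb.1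
    · rw [_root_.mul_inv_rev, Units.val_mul]
      exact hm _ _ hb.2 ha.2
  | inv a _ ha =>
    exact ⟨ha.2, by simpa using ha.1⟩

end

end Cfsg.Agent.Lib.Chev
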