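/-
Involutions in unipotent subgroups of simply laced Chevalley groups in characteristic two: the elimination.
-/
import Cfsg.Agent.Lib.ChInv.Wt

set_option autoImplicit false

namespace Cfsg.Agent.Lib.Chev

open Cfsg.Lie

/-- Positive root indices. -/
abbrev PR (D : ChevalleyDatum) (r : ℕ) : Prop := r < D.nroots ∧ D.nroots / 2 ≤ r

/-- The facts of a simply laced root system used in the elimination. -/
structure SLFacts (D : ChevalleyDatum) (L : ℕ → ℤ) : Prop where
  addL : AddF D L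
  mono : ∀ a b, a < b → b < D.nroots → L a < L b
  pos0 : 0 < L (D.nroots / 2)
  self : ∀ r, PR D r → D.pairing r r = 2
  sym : ∀ a b, PR D a → PR D b → D.pairing a b = D.pairing b a
  gr : ∀ r w, PR D r → PR D w → w ≠ r → D.pairing r w = -1 ∨ D.pairing r w = 0 ∨ D.pairing r w = 1
  g0 : ∀ r w, PR D r → PR D w → D.pairing r w = 0 → D.commTerms r w = []
  g1 : ∀ r k, PR D r → PR D k → r < k → D.pairing r k = 1 → ∃ (d : ℕ) (m : ℤ), PR D d ∧
    D.commTerms r d = [(k, m, 1, 1)] ∧ Odd m ∧ D.pairing r d = -1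
  add : ∀ a b, PR D a → PR D b → a ≠ b → ∀ c ∈ D.commTerms a b, ∀ π : ℕ → ℤ, AddF D π → π c.1 = π a + π b
  g2 : ∀ r z, PR D r → PR D z → r < z → D.pairing r z = -1 → ∃ (s : ℕ) (m n : ℤ) (i : ℕ), PR D s ∧
    D.chainEntry r z = [(s, m)] ∧ D.chainEntry z r = [(s, n)] ∧ Odd m ∧ Odd n ∧ i < D.rank ∧
    Odd (D.cartan i r + D.cartan i z)

/-- The sets of positive roots on which the elimination runs. -/
structure CP (D : ChevalleyDatum) (P : ℕ → Prop) : Prop where
  pos : ∀ w, P w → PR D w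
  add : ∀ a b, P a → P b → a ≠ b → ∀ c ∈ D.commTerms a b, P c.1
  sub : ∀ (r d k : ℕ) (m : ℤ), P k → P r → PR D d → r ≠ d → D.commTerms r d = [(k, m, 1, 1)] → P d

section

variable {F : Type*} [Field F] {D : ChevalleyDatum} {T : Tbl}

lemma rootsGen_mono0 {S S' : ℕ → Prop} (h : ∀ w, S w → S' w) : rootsGen D F S ≤ rootsGen D F S' := by
  refine (Subgroup.closure_le _).2 ?_
  rintro g ⟨r, t, hr, hg⟩
  exact Subgroup.subset_closure ⟨r, t, h r hr, hg⟩

lemma odd_cast_char_two [CharP F 2] {m : ℤ} (h : Odd m) : (m : F) = 1 := by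
  obtain ⟨k, rfl⟩ := h
  push_cast
  have h2 : (2 : F) = 0 := by
    have := CharP.cast_eq_zero F 2
    simpa using this
  rw [h2]
  simp

lemma neg_char_two [CharP F 2] (a : F) : -a = a := by
  have h2 : (2 : F) = 0 := by
    have := CharP.cast_eq_zero F 2
    simpa using this
  have : a + a = 0 := by
    rw [← two_mul, h2, zero_mul]
  exact neg_eq_of_add_eq_zero_right this

lemma add_self_char_two [CharP F 2] (a : F) : a + a = 0 := by
  have h2 : (2 : F) = 0 := by
    have := CharP.cast_eq_zero F 2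
    simpa using this
  rw [← two_mul, h2, zero_mul]

namespace Tbl.Good2

variable (hG : T.Good2 D)
include hG

lemma pos_ne_neg {a b : ℕ} (ha : PR D a) (hb : PR D b) : a ≠ D.neg b := by
  have h4 := hG.neg_add hb.1
  have h5 := hG.even_n
  have := ha.2
  have := hb.2
  omega

lemma xU_zero' {k : ℕ} (hk : k < D.nroots) : hG.xU hk (0 : F) = 1 := by
  apply Units.ext
  rw [hG.xU_coe, x_zero]
  rfl

/-- Splitting off a root element. -/
lemma gen_decomp {k : ℕ} (hk : k < D.nroots) {S S' : ℕ → Prop} (hS : ∀ w, S w → w = k ∨ S' w)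
    (hn : ∀ t : F, hG.xU hk t ∈ Subgroup.normalizer (rootsGen D F S' : Set (GL D.Idx F)))
    {g : GL D.Idx F} (hg : g ∈ rootsGen D F S) :
    ∃ t : F, ∃ u ∈ rootsGen D F S', g = hG.xU hk t * u := by
  induction hg using Subgroup.closure_induction with
  | mem g hg =>
    obtain ⟨w, t, hw, e⟩ := hg
    rcases hS w hw with rfl | h
    · exact ⟨t, 1, Subgroup.one_mem _, by rw [mul_one]; exact hG.eq_xU hk e⟩
    · refine ⟨0, g, Subgroup.subset_closure ⟨w, t, h, e⟩, ?_⟩
      rw [hG.xU_zero', one_mul]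
  | one => exact ⟨0, 1, Subgroup.one_mem _, by rw [hG.xU_zero', one_mul]⟩
  | mul a b _ _ ha hb =>
    obtain ⟨t, u, hu, rfl⟩ := ha
    obtain ⟨t', u', hu', rfl⟩ := hb
    refine ⟨t + t', (hG.xU hk (-t')) * u * (hG.xU hk (-t'))⁻¹ * u', ?_, ?_⟩
    · exact Subgroup.mul_mem _ ((Subgroup.mem_normalizer_iff.1 (hn (-t')) u).1 hu) hu'
    · rw [hG.xU_inv, _root_.neg_neg, ← hG.xU_mul, ← hG.xU_inv]
      group
  | inv a _ ha =>
    obtain ⟨t, u, hu, rfl⟩ := ha
    refine ⟨-t, hG.xU hk t * u⁻¹ * (hG.xU hk t)⁻¹, ?_, ?_⟩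
    · exact (Subgroup.mem_normalizer_iff.1 (hn t) _).1 (Subgroup.inv_mem _ hu)
    · rw [← hG.xU_inv]
      group

/-- The first nontrivial coordinate. -/
lemma exists_first {P : ℕ → Prop} (hP : CP D P) :
    ∀ (m k : ℕ), k + m = D.nroots → ∀ v ∈ rootsGen D F (fun w => P w ∧ k ≤ w), v ≠ 1 →
      ∃ r, ∃ hr : r < D.nroots, ∃ c : F, ∃ u ∈ rootsGen D F (fun w => P w ∧ r + 1 ≤ w),
        P r ∧ c ≠ 0 ∧ v = hG.xU hr c * u := by
  intro m
  induction m with
  | zero =>
    intro k hk v hv h1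
    exfalso
    apply h1
    have : rootsGen D F (fun w => P w ∧ k ≤ w) = ⊥ := by
      rw [eq_bot_iff]
      refine (Subgroup.closure_le _).2 ?_
      rintro g ⟨r, t, hr, _⟩
      have := (hP.pos r hr.1).1
      have := hr.2
      omega
    rw [this] at hv
    exact Subgroup.mem_bot.1 hv
  | succ m ih =>
    intro k hk v hv h1
    by_cases hPk : P k
    · have hk' : k < D.nroots := by omega
      have hpk := hP.pos k hPk
      obtain ⟨t, u, hu, rfl⟩ := hG.gen_decomp hk' (S := fun w => P w ∧ k ≤ w)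
        (S' := fun w => P w ∧ k + 1 ≤ w) (fun w hw => by
          rcases Nat.eq_or_lt_of_le hw.2 with e | e
          · exact Or.inl e.symm
          · exact Or.inr ⟨hw.1, e⟩)
        (fun t => hG.xU_normalizes _ (fun u hu => (hP.pos u hu.1).1) hk' (fun a ha => by
          have hpa := hP.pos a ha.1
          have hne : a ≠ k := by have := ha.2; omega
          refine Or.inr ⟨hne, hG.pos_ne_neg hpa hpk, fun c hc => ?_⟩
          have ho := hG.commTerms_order hk' hpa.1 hpk.2 hpa.2 hne hc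
          exact ⟨hP.add k a hPk ha.1 (Ne.symm hne) c hc, by omega⟩) t) hv
      by_cases ht : t = 0
      · subst ht
        rw [hG.xU_zero', one_mul] at h1 ⊢
        exact ih (k + 1) (by omega) u hu h1
      · exact ⟨k, hk', t, u, hu, hPk, ht, rfl⟩
    · apply ih (k + 1) (by omega) v _ h1
      refine rootsGen_mono0 (fun w hw => ⟨hw.1, ?_⟩) hv
      rcases Nat.eq_or_lt_of_le hw.2 with e | e
      · exact absurd (e ▸ hw.1) hPk
      · exact e


/-- The roots of the groups in the first loop. -/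
def Q1 (D : ChevalleyDatum) (P : ℕ → Prop) (r k w : ℕ) : Prop := P w ∧ r < w ∧ (D.pairing r w ≤ 0 ∨ k ≤ w)

/-- The roots of the groups in the second loop. -/
def R2 (D : ChevalleyDatum) (P : ℕ → Prop) (r k w : ℕ) : Prop :=
  P w ∧ r < w ∧ (D.pairing r w = 0 ∨ (D.pairing r w = -1 ∧ k ≤ w))

/-- The commutator relation for one term, in characteristic two. -/
lemma xU_comm_one [CharP F 2] {r d k : ℕ} {m : ℤ} (hr : PR D r) (hd : PR D d) (hk : k < D.nroots) (hne : d ≠ r)
    (h : D.commTerms r d = [(k, m, 1, 1)]) (hm : Odd m) (c δ : F) :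
    hG.xU hd.1 δ * hG.xU hr.1 c = hG.xU hr.1 c * hG.xU hd.1 δ * hG.xU hk (c * δ) := by
  apply Units.ext
  simp only [Units.val_mul, hG.xU_coe]
  rw [hG.x_comm hr.1 hd.1 hne (hG.pos_ne_neg hd hr) c δ]
  unfold ChevalleyDatum.commWord
  rw [h]
  simp only [List.map_cons, List.map_nil, wordMat_cons, wordMat_nil, Matrix.mul_one, pow_one,
    odd_cast_char_two hm, one_mul, neg_char_two]

variable {L : ℕ → ℤ} {P : ℕ → Prop}

/-- The first loop: removing the terms of grade one. -/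
lemma step1 [CharP F 2] (hSL : SLFacts D L) (hP : CP D P) {r : ℕ} (hr : r < D.nroots) (hPr : P r) {c : F} (hc : c ≠ 0) :
    ∀ (m k : ℕ), k + m = D.nroots → r < k → ∀ u ∈ rootsGen D F (Q1 D P r k),
      ∃ g ∈ rootsGen D F P, ∃ u' ∈ rootsGen D F (Q1 D P r D.nroots),
        g * (hG.xU hr c * u) * g⁻¹ = hG.xU hr c * u' := by
  have hpr := hP.pos r hPr
  have hQl : ∀ k w, Q1 D P r k w → w < D.nroots := fun k w hw => (hP.pos w hw.1).1
  intro m
  induction m with
  | zero =>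
    intro k hk _ u hu
    have : k = D.nroots := by omega
    subst this
    exact ⟨1, Subgroup.one_mem _, u, hu, by simp⟩
  | succ m ih =>
    intro k hk hrk u hu
    have hk' : k < D.nroots := by omega
    by_cases hcase : P k ∧ D.pairing r k = 1
    · obtain ⟨hPk, hg1⟩ := hcase
      have hpk := hP.pos k hPk
      obtain ⟨d, m', hd, e1, hm, hgd⟩ := hSL.g1 r k hpr hpk hrk hg1
      have hdr : d ≠ r := by
        rintro rfl
        rw [hSL.self d hd] at hgd
        omega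
      have hPd : P d := hP.sub r d k m' hPk hPr hd (Ne.symm hdr) e1
      obtain ⟨e, u₁, hu₁, rfl⟩ := hG.gen_decomp hk' (S := Q1 D P r k) (S' := Q1 D P r (k + 1))
        (fun w hw => by
          rcases hw with ⟨h1, h2, h3⟩
          rcases h3 with h3 | h3
          · exact Or.inr ⟨h1, h2, Or.inl h3⟩
          · rcases Nat.eq_or_lt_of_le h3 with e | e
            · exact Or.inl e.symm
            · exact Or.inr ⟨h1, h2, Or.inr e⟩)
        (fun t => hG.xU_normalizes _ (hQl _) hk' (fun a ha => by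
          by_cases hne : a = k
          · exact Or.inl hne
          have hpa := hP.pos a ha.1
          refine Or.inr ⟨hne, hG.pos_ne_neg hpa hpk, fun c hc => ?_⟩
          have ho := hG.commTerms_order hk' hpa.1 hpk.2 hpa.2 hne hc
          refine ⟨hP.add k a hPk ha.1 (Ne.symm hne) c hc, ?_, Or.inr ho.1⟩
          have := ha.2.1
          omega) t) hu
      have hnd : ∀ t : F, hG.xU hd.1 t ∈ Subgroup.normalizer (rootsGen D F (Q1 D P r (k + 1)) : Set (GL D.Idx F)) :=
        fun t => hG.xU_normalizes _ (hQl _) hd.1 (fun a ha => by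
          by_cases hne : a = d
          · exact Or.inl hne
          have hpa := hP.pos a ha.1
          refine Or.inr ⟨hne, hG.pos_ne_neg hpa hd, fun c hc => ?_⟩
          have ho := hG.commTerms_order hd.1 hpa.1 hd.2 hpa.2 hne hc
          refine ⟨hP.add d a hPd ha.1 (Ne.symm hne) c hc, ?_, Or.inl ?_⟩
          · have := ha.2.1
            omega
          · have h1 := hSL.add d a hd hpa (Ne.symm hne) c hc (fun w => D.pairing r w) (hG.addF_pairing r)
            have har : a ≠ r := by have := ha.2.1; omega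
            have h2 := hSL.gr r a hpr hpa har
            rw [h1, hgd]
            omega) t
      have hym : hG.xU hd.1 (c⁻¹ * e) ∈ rootsGen D F P := Subgroup.subset_closure ⟨d, _, hPd, rfl⟩
      have h1 := hG.xU_comm_one hpr hd hk' hdr e1 hm c (c⁻¹ * e)
      rw [mul_inv_cancel_left₀ hc] at h1
      have hu₂ := (Subgroup.mem_normalizer_iff.1 (hnd (c⁻¹ * e)) u₁).1 hu₁
      generalize hG.xU hd.1 (c⁻¹ * e) = y at hym h1 hu₂
      obtain ⟨g, hg, u', hu', eg⟩ := ih (k + 1) (by omega) (by omega) _ hu₂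
      refine ⟨g * y, Subgroup.mul_mem _ hg hym, u', hu', ?_⟩
      rw [← eg]
      have h2 : y * (hG.xU hr c * (hG.xU hk' e * u₁)) * y⁻¹ = hG.xU hr c * (y * u₁ * y⁻¹) := by
        have h3 : hG.xU hk' e * hG.xU hk' e = 1 := by
          rw [hG.xU_mul, add_self_char_two, hG.xU_zero']
        calc y * (hG.xU hr c * (hG.xU hk' e * u₁)) * y⁻¹
            = (y * hG.xU hr c) * (hG.xU hk' e * u₁) * y⁻¹ := by group
          _ = hG.xU hr c * y * (hG.xU hk' e * hG.xU hk' e) * u₁ * y⁻¹ := by rw [h1]; group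
          _ = _ := by rw [h3]; group
      calc g * y * (hG.xU hr c * (hG.xU hk' e * u₁)) * (g * y)⁻¹
          = g * (y * (hG.xU hr c * (hG.xU hk' e * u₁)) * y⁻¹) * g⁻¹ := by group
        _ = _ := by rw [h2]
    · refine ih (k + 1) (by omega) (by omega) u (rootsGen_mono0 (fun w hw => ?_) hu)
      rcases hw with ⟨h1, h2, h3⟩
      refine ⟨h1, h2, ?_⟩
      rcases h3 with h3 | h3
      · exact Or.inl h3
      · rcases Nat.eq_or_lt_of_le h3 with e | e
        · subst e
          have hpk := hP.pos k h1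
          have h5 := hSL.gr r k hpr hpk (by omega)
          have h6 : D.pairing r k ≠ 1 := fun h7 => hcase ⟨h1, h7⟩
          left
          omega
        · exact Or.inr e


omit hG in
lemma L_pos (hSL : SLFacts D L) {w : ℕ} (hw : PR D w) : 0 < L w := by
  rcases Nat.eq_or_lt_of_le hw.2 with e | e
  · rw [← e]
    exact hSL.pos0
  · exact hSL.pos0.trans (hSL.mono _ _ e hw.1)

omit hG in
lemma L_inj (hSL : SLFacts D L) {a b : ℕ} (ha : a < D.nroots) (hb : b < D.nroots) (h : L a = L b) : a = b := by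
  rcases lt_trichotomy a b with e | e | e
  · have := hSL.mono _ _ e hb
    omega
  · exact e
  · have := hSL.mono _ _ e ha
    omega

lemma L_ne_zero (hSL : SLFacts D L) {w : ℕ} (hw : w < D.nroots) : L w ≠ 0 := by
  by_cases h : D.nroots / 2 ≤ w
  · exact (L_pos hSL ⟨hw, h⟩).ne'
  · have h4 := hG.neg_add hw
    have h5 := hG.even_n
    have h6 : PR D (D.neg w) := by
      constructor <;> omega
    have h7 := L_pos hSL h6
    rw [hSL.addL.neg w hw] at h7
    omega

lemma wt_zero (hSL : SLFacts D L) {m : D.Idx} (h : wtI L m = 0) : ∃ j, m = Sum.inl j := by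
  rcases m with j | w
  · exact ⟨j, rfl⟩
  · exact absurd h (hG.L_ne_zero hSL w.2)

lemma wt_root (hSL : SLFacts D L) {m : D.Idx} {a : ℕ} (ha : PR D a) (h : wtI L m = L a) :
    m = Sum.inr ⟨a, ha.1⟩ := by
  rcases m with j | w
  · exact absurd h.symm (L_pos hSL ha).ne'
  · have := L_inj hSL w.2 ha.1 h
    congr 1
    exact Fin.ext this

lemma entry_nonneg (hSL : SLFacts D L) {S : ℕ → Prop} (hS : ∀ w, S w → PR D w) {g : GL D.Idx F}
    (hg : g ∈ rootsGen D F S) :
    (∀ row col, (g : Matrix D.Idx D.Idx F) row col ≠ 0 → 0 ≤ wtI L row - wtI L col) ∧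
    (∀ row col, ((g⁻¹ : GL D.Idx F) : Matrix D.Idx D.Idx F) row col ≠ 0 → 0 ≤ wtI L row - wtI L col) :=
  entry_psi hG hSL.addL hSL.addL (fun μ => 0 ≤ μ.2) (by simp)
    (fun a b ha hb => by simpa using add_nonneg ha hb) (fun w hw => (hS w hw).1)
    (fun w hw i _ => by
      have := L_pos hSL (hS w hw)
      simp only
      positivity) hg

lemma block_mul (hSL : SLFacts D L) {A B : Matrix D.Idx D.Idx F}
    (hA : ∀ row col, A row col ≠ 0 → 0 ≤ wtI L row - wtI L col)
    (hB : ∀ row col, B row col ≠ 0 → 0 ≤ wtI L row - wtI L col) {j i : Fin D.rank}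
    (hb : ∀ j', B (Sum.inl j') (Sum.inl i) = if j' = i then 1 else 0) :
    (A * B) (Sum.inl j) (Sum.inl i) = A (Sum.inl j) (Sum.inl i) := by
  rw [Matrix.mul_apply, Finset.sum_eq_single (Sum.inl i)]
  · rw [hb, if_pos rfl, mul_one]
  · intro m _ hm
    rcases m with j' | w
    · rw [hb, if_neg (fun e => hm (by rw [e])), mul_zero]
    · by_contra h0
      have h1 := hA _ _ (left_ne_zero_of_mul h0)
      have h2 := hB _ _ (right_ne_zero_of_mul h0)
      simp only [wtI] at h1 h2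
      exact hG.L_ne_zero hSL w.2 (by omega)
  · simp

/-- The block of the coroots of an element of `U`. -/
lemma block (hSL : SLFacts D L) {S : ℕ → Prop} (hS : ∀ w, S w → PR D w) {g : GL D.Idx F}
    (hg : g ∈ rootsGen D F S) (j i : Fin D.rank) :
    (g : Matrix D.Idx D.Idx F) (Sum.inl j) (Sum.inl i) = if j = i then 1 else 0 := by
  induction hg using Subgroup.closure_induction generalizing j with
  | mem g hg =>
    obtain ⟨w, t, hw, e⟩ := hg
    rw [e]
    simp [ChevalleyDatum.x, (hS w hw).1, ChevalleyDatum.xMat]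
  | one =>
    simp [Matrix.one_apply]
  | mul a b ha hb iha ihb =>
    rw [Units.val_mul, hG.block_mul hSL (hG.entry_nonneg hSL hS ha).1 (hG.entry_nonneg hSL hS hb).1 ihb, iha]
  | inv a ha iha =>
    have h1 := hG.block_mul (j := j) (i := i) hSL (hG.entry_nonneg hSL hS ha).2 (hG.entry_nonneg hSL hS ha).1 iha
    rw [← Units.val_mul, inv_mul_cancel] at h1
    rw [← h1]
    simp [Matrix.one_apply]

omit hG in
lemma mul_entry_single {A B : Matrix D.Idx D.Idx F} {a b m₀ : D.Idx}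
    (h : ∀ m, m ≠ m₀ → A a m ≠ 0 → B m b ≠ 0 → False) : (A * B) a b = A a m₀ * B m₀ b := by
  rw [Matrix.mul_apply, Finset.sum_eq_single m₀]
  · intro m _ hm
    by_contra h0
    exact h m hm (left_ne_zero_of_mul h0) (right_ne_zero_of_mul h0)
  · simp

lemma chain_one {π : ℕ → ℤ} (hπ : AddF D π) {r z s : ℕ} (hr : r < D.nroots) (hz : z < D.nroots) {m : ℤ}
    (h : D.chainEntry r z = [(s, m)]) : π s = π z + π r := by
  have := hπ.chain r z hr hz ((s, m), 0) (by rw [h]; simp)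
  simp only at this
  rw [this]
  push_cast
  ring

/-- An entry of a root element from a chain of length one. -/
lemma x_chain_entry {r s u : ℕ} (hr : r < D.nroots) (hs : s < D.nroots) (hu : u < D.nroots) {m : ℤ}
    (h : D.chainEntry r s = [(u, m)]) (h1 : s ≠ r) (h2 : s ≠ D.neg r) (h3 : u ≠ s) (t : F) :
    D.x F r t (Sum.inr ⟨u, hu⟩) (Sum.inr ⟨s, hs⟩) = (m : F) * t := by
  have e := chainCoeff_eq D hG.sane hr s u
  rw [h] at e
  simp only [ChevalleyDatum.x, hr, dif_pos]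
  have h1' : (⟨s, hs⟩ : Fin D.nroots) ≠ ⟨r, hr⟩ := fun e => h1 (congrArg Fin.val e)
  have h2' : s ≠ D.negIdx.getD r 0 := h2
  have h3' : (⟨u, hu⟩ : Fin D.nroots) ≠ ⟨s, hs⟩ := fun e => h3 (congrArg Fin.val e)
  simp only [ChevalleyDatum.xMat, Matrix.of_apply, h1', h2', h3', if_false, e]
  simp

lemma x_cartan_entry {r : ℕ} (hr : r < D.nroots) (i : Fin D.rank) (t : F) :
    D.x F r t (Sum.inr ⟨r, hr⟩) (Sum.inl i) = - ((D.cartan i r : ℤ) : F) * t := by
  simp only [ChevalleyDatum.x, hr, dif_pos]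
  simp only [ChevalleyDatum.xMat, Matrix.of_apply, if_true]
  rfl

lemma rootsGen_le_U {S : ℕ → Prop} (hS : ∀ w, S w → PR D w) : rootsGen D F S ≤ D.posUnipotent F := by
  refine (Subgroup.closure_le _).2 ?_
  rintro g ⟨r, t, hr, hg⟩
  exact Subgroup.subset_closure ⟨r, t, (hG.isPos_iff (hS r hr).1).2 (hS r hr).2, hg⟩

set_option maxHeartbeats 4000000 in
/-- The key point of the second loop. -/
lemma step2_key [CharP F 2] (hSL : SLFacts D L) (hP : CP D P) {r z : ℕ} (hr : PR D r) (hz : PR D z) (hrz : r < z)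
    (hPr : P r) (hPz : P z) (hgz : D.pairing r z = -1) {c e : F} {u₁ : GL D.Idx F}
    (hu₁ : u₁ ∈ rootsGen D F (R2 D P r (z + 1)))
    (h2 : (hG.xU hr.1 c * (hG.xU hz.1 e * u₁)) * (hG.xU hr.1 c * (hG.xU hz.1 e * u₁)) = 1) : c * e = 0 := by
  obtain ⟨s, ms, ns, i, hs, e1, e2, hms, hns, hi, hodd⟩ := hSL.g2 r z hr hz hrz hgz
  have hπG := hG.addF_pairing r
  have hπL := hSL.addL
  have hgr := hSL.self r hr
  have hLr := L_pos hSL hr
  have hLz := L_pos hSL hz
  have hGs : D.pairing r s = 1 := by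
    have := hG.chain_one hπG hr.1 hz.1 e1
    rw [this, hgz, hgr]
    rfl
  have hLs : L s = L z + L r := hG.chain_one hπL hr.1 hz.1 e1
  have hsr : s ≠ r := fun h => by rw [h, hgr] at hGs; omega
  have hsz : s ≠ z := fun h => by rw [h, hgz] at hGs; omega
  have hzr : z ≠ r := by omega
  -- generators
  have hS1 : ∀ w, R2 D P r (z + 1) w → PR D w := fun w hw => hP.pos w hw.1
  have hS2 : ∀ w, R2 D P r z w → PR D w := fun w hw => hP.pos w hw.1
  have hS3 : ∀ w, (w = r ∨ R2 D P r z w) → PR D w := fun w hw => by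
    rcases hw with rfl | hw
    · exact hr
    · exact hS2 w hw
  have hu₁' : u₁ ∈ rootsGen D F (R2 D P r z) := rootsGen_mono0 (fun w hw => ⟨hw.1, hw.2.1, by
    rcases hw.2.2 with h | h
    · exact Or.inl h
    · exact Or.inr ⟨h.1, by have := h.2; omega⟩⟩) hu₁
  have hzm : hG.xU hz.1 e ∈ rootsGen D F (R2 D P r z) :=
    Subgroup.subset_closure ⟨z, e, ⟨hPz, hrz, Or.inr ⟨hgz, le_rfl⟩⟩, rfl⟩
  have hu₂ : hG.xU hz.1 e * u₁ ∈ rootsGen D F (R2 D P r z) := Subgroup.mul_mem _ hzm hu₁'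
  have hv : hG.xU hr.1 c * (hG.xU hz.1 e * u₁) ∈ rootsGen D F (fun w => w = r ∨ R2 D P r z w) :=
    Subgroup.mul_mem _ (Subgroup.subset_closure ⟨r, c, Or.inl rfl, rfl⟩)
      (rootsGen_mono0 (fun w hw => Or.inr hw) hu₂)
  -- the weights of the entries
  have P1 := (entry_psi hG hπG hπL (fun μ => ∃ b : ℕ, μ.1 = -(b : ℤ) ∧ (b : ℤ) * (L z + 1) ≤ μ.2)
    ⟨0, by simp, by simp⟩
    (fun a b ⟨x, hx, hx'⟩ ⟨y, hy, hy'⟩ => ⟨x + y, by simp only [Prod.fst_add, hx, hy]; push_cast; ring, by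
      simp only [Prod.snd_add]
      push_cast
      linarith⟩)
    (fun w hw => (hS1 w hw).1)
    (fun w hw i hi => by
      have hw0 := L_pos hSL (hS1 w hw)
      rcases hw.2.2 with h | ⟨h, h'⟩
      · refine ⟨0, by simp [h], ?_⟩
        simp only [Nat.cast_zero, zero_mul]
        positivity
      · refine ⟨i, by simp [h], ?_⟩
        have h5 : L z < L w := hSL.mono _ _ (by omega) (hS1 w hw).1
        exact mul_le_mul_of_nonneg_left (by omega) (by positivity))
    hu₁).1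
  have P2 := (entry_psi hG hπG hπL (fun μ => ∃ b : ℕ, μ.1 = -(b : ℤ) ∧ (b : ℤ) * L z ≤ μ.2)
    ⟨0, by simp, by simp⟩
    (fun a b ⟨x, hx, hx'⟩ ⟨y, hy, hy'⟩ => ⟨x + y, by simp only [Prod.fst_add, hx, hy]; push_cast; ring, by
      simp only [Prod.snd_add]
      push_cast
      linarith⟩)
    (fun w hw => (hS2 w hw).1)
    (fun w hw i hi => by
      have hw0 := L_pos hSL (hS2 w hw)
      rcases hw.2.2 with h | ⟨h, h'⟩
      · refine ⟨0, by simp [h], ?_⟩
        simp only [Nat.cast_zero, zero_mul]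
        positivity
      · refine ⟨i, by simp [h], ?_⟩
        have h5 : L z ≤ L w := by
          rcases Nat.eq_or_lt_of_le h' with h6 | h6
          · rw [h6]
          · exact (hSL.mono _ _ h6 (hS2 w hw).1).le
        exact mul_le_mul_of_nonneg_left h5 (by positivity))
    hu₂).1
  have P3 := (entry_psi hG hπG hπL (fun μ => ∃ a b : ℕ, μ.1 = 2 * (a : ℤ) - (b : ℤ) ∧ (a : ℤ) * L r + (b : ℤ) * L z ≤ μ.2)
    ⟨0, 0, by simp, by simp⟩
    (fun a b ⟨x, x', hx, hx'⟩ ⟨y, y', hy, hy'⟩ => ⟨x + y, x' + y', by simp only [Prod.fst_add, hx, hy]; push_cast; ring, by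
      simp only [Prod.snd_add]
      push_cast
      linarith⟩)
    (fun w hw => (hS3 w hw).1)
    (fun w hw i hi => by
      rcases hw with rfl | hw
      · refine ⟨i, 0, by simp [hgr]; ring, by simp⟩
      have hw0 := L_pos hSL (hS2 w hw)
      rcases hw.2.2 with h | ⟨h, h'⟩
      · refine ⟨0, 0, by simp [h], ?_⟩
        simp only [Nat.cast_zero, zero_mul, add_zero]
        positivity
      · refine ⟨0, i, by simp [h], ?_⟩
        have h5 : L z ≤ L w := by
          rcases Nat.eq_or_lt_of_le h' with h6 | h6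
          · rw [h6]
          · exact (hSL.mono _ _ h6 (hS2 w hw).1).le
        simp only [Nat.cast_zero, zero_mul, zero_add]
        exact mul_le_mul_of_nonneg_left h5 (by positivity))
    hv).1
  -- the three steps of the analysis
  have LA : ∀ a m b, D.x F r c a m ≠ 0 → ((hG.xU hz.1 e * u₁ : GL D.Idx F) : Matrix D.Idx D.Idx F) m b ≠ 0 →
      wtI (fun w => D.pairing r w) a - wtI (fun w => D.pairing r w) b = 2 → wtI L a - wtI L b = L r →
      wtI L m = wtI L b := by
    intro a m b h1 h3 h4 h5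
    obtain ⟨b', hb1, hb2⟩ := P2 _ _ h3
    simp only at hb1 hb2
    have hb3 : (0 : ℤ) ≤ (b' : ℤ) * L z := by positivity
    rcases x_entry_wt hG.sane hr.1 c h1 with rfl | ⟨i₁, hi₁, hw⟩
    · omega
    · have h6 := hw _ hπG
      have h7 := hw _ hπL
      simp only [hgr] at h6
      have h8 : (i₁ : ℤ) = 1 := by
        by_contra h9
        have h10 : (2 : ℤ) ≤ i₁ := by omega
        have h11 := mul_le_mul_of_nonneg_right h10 hLr.le
        omega
      rw [h8] at h7
      omega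
  have LB : ∀ a m b, D.x F r c a m ≠ 0 → ((hG.xU hz.1 e * u₁ : GL D.Idx F) : Matrix D.Idx D.Idx F) m b ≠ 0 →
      wtI (fun w => D.pairing r w) a - wtI (fun w => D.pairing r w) b = -1 → wtI L a - wtI L b = L z →
      a = m := by
    intro a m b h1 h3 h4 h5
    obtain ⟨b', hb1, hb2⟩ := P2 _ _ h3
    simp only at hb1 hb2
    rcases x_entry_wt hG.sane hr.1 c h1 with h | ⟨i₁, hi₁, hw⟩
    · exact h
    · exfalso
      have h6 := hw _ hπG
      have h7 := hw _ hπL
      simp only [hgr] at h6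
      have h10 : (1 : ℤ) ≤ i₁ := by omega
      have h11 := mul_le_mul_of_nonneg_right h10 hLr.le
      have h12 : (3 : ℤ) ≤ b' := by omega
      have h13 := mul_le_mul_of_nonneg_right h12 hLz.le
      omega
  have LC : ∀ a m b, D.x F z e a m ≠ 0 → (u₁ : Matrix D.Idx D.Idx F) m b ≠ 0 →
      wtI (fun w => D.pairing r w) a - wtI (fun w => D.pairing r w) b = -1 → wtI L a - wtI L b = L z →
      wtI L m = wtI L b := by
    intro a m b h1 h3 h4 h5
    obtain ⟨b', hb1, hb2⟩ := P1 _ _ h3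
    simp only at hb1 hb2
    rcases x_entry_wt hG.sane hz.1 e h1 with rfl | ⟨i₁, hi₁, hw⟩
    · exfalso
      have h12 : (1 : ℤ) ≤ b' := by omega
      have h13 := mul_le_mul_of_nonneg_right h12 (by omega : (0 : ℤ) ≤ L z + 1)
      omega
    · have h6 := hw _ hπG
      have h7 := hw _ hπL
      simp only [hgz] at h6
      have h8 : (i₁ : ℤ) = 1 := by omega
      have h9 : (b' : ℤ) = 0 := by omega
      rw [h8] at h7
      rw [h9] at hb2
      omega
  -- the entries
  have hB : ((hG.xU hz.1 e * u₁ : GL D.Idx F) : Matrix D.Idx D.Idx F) = D.x F z e * (u₁ : Matrix D.Idx D.Idx F) := by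
    rw [Units.val_mul, hG.xU_coe]
  have hV : ((hG.xU hr.1 c * (hG.xU hz.1 e * u₁) : GL D.Idx F) : Matrix D.Idx D.Idx F) =
      D.x F r c * ((hG.xU hz.1 e * u₁ : GL D.Idx F) : Matrix D.Idx D.Idx F) := by
    rw [Units.val_mul, hG.xU_coe]
  have hUr : hG.xU hr.1 c ∈ D.posUnipotent F := hG.xU_mem_U hr.1 hr.2 c
  have hU₂ := hG.rootsGen_le_U hS2 hu₂
  have hU₁ := hG.rootsGen_le_U hS1 hu₁
  have hUv := hG.rootsGen_le_U hS3 hv
  have dAz := hG.U_diag hUr (Sum.inr ⟨z, hz.1⟩)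
  have dAs := hG.U_diag hUr (Sum.inr ⟨s, hs.1⟩)
  rw [hG.xU_coe] at dAz dAs
  have dBz := hG.U_diag hU₂ (Sum.inr ⟨z, hz.1⟩)
  have dU1r := hG.U_diag hU₁ (Sum.inr ⟨r, hr.1⟩)
  have dVh := hG.U_diag hUv (Sum.inl ⟨i, hi⟩)
  have dVs := hG.U_diag hUv (Sum.inr ⟨s, hs.1⟩)
  have bB := hG.block hSL hS2 hu₂ ⟨i, hi⟩ ⟨i, hi⟩
  rw [if_pos rfl] at bB
  have bU := hG.block hSL hS1 hu₁ ⟨i, hi⟩ ⟨i, hi⟩
  rw [if_pos rfl] at bU
  have E1 : (D.x F r c * ((hG.xU hz.1 e * u₁ : GL D.Idx F) : Matrix D.Idx D.Idx F)) (Sum.inr ⟨r, hr.1⟩) (Sum.inl ⟨i, hi⟩)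
      = D.x F r c (Sum.inr ⟨r, hr.1⟩) (Sum.inl ⟨i, hi⟩) * 1 := by
    rw [mul_entry_single (m₀ := Sum.inl ⟨i, hi⟩), bB]
    intro m hm h1 h3
    have h4 := LA _ m _ h1 h3 (by simp [wtI, hgr]) (by simp [wtI])
    obtain ⟨j, rfl⟩ := hG.wt_zero hSL h4
    rw [hG.block hSL hS2 hu₂] at h3
    by_cases hj : j = ⟨i, hi⟩
    · exact hm (by rw [hj])
    · rw [if_neg hj] at h3
      exact h3 rfl
  have E2 : (D.x F r c * ((hG.xU hz.1 e * u₁ : GL D.Idx F) : Matrix D.Idx D.Idx F)) (Sum.inr ⟨s, hs.1⟩) (Sum.inr ⟨z, hz.1⟩)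
      = D.x F r c (Sum.inr ⟨s, hs.1⟩) (Sum.inr ⟨z, hz.1⟩) * 1 := by
    rw [mul_entry_single (m₀ := Sum.inr ⟨z, hz.1⟩), dBz]
    intro m hm h1 h3
    have h4 := LA _ m _ h1 h3 (by simp [wtI, hgr, hgz, hGs]) (by simp [wtI, hLs])
    exact hm (hG.wt_root hSL hz h4)
  have E4 : (D.x F z e * (u₁ : Matrix D.Idx D.Idx F)) (Sum.inr ⟨z, hz.1⟩) (Sum.inl ⟨i, hi⟩)
      = D.x F z e (Sum.inr ⟨z, hz.1⟩) (Sum.inl ⟨i, hi⟩) * 1 := by
    rw [mul_entry_single (m₀ := Sum.inl ⟨i, hi⟩), bU]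
    intro m hm h1 h3
    have h4 := LC _ m _ h1 h3 (by simp [wtI, hgz]) (by simp [wtI])
    obtain ⟨j, rfl⟩ := hG.wt_zero hSL h4
    rw [hG.block hSL hS1 hu₁] at h3
    by_cases hj : j = ⟨i, hi⟩
    · exact hm (by rw [hj])
    · rw [if_neg hj] at h3
      exact h3 rfl
  have E3 : (D.x F r c * ((hG.xU hz.1 e * u₁ : GL D.Idx F) : Matrix D.Idx D.Idx F)) (Sum.inr ⟨z, hz.1⟩) (Sum.inl ⟨i, hi⟩)
      = D.x F z e (Sum.inr ⟨z, hz.1⟩) (Sum.inl ⟨i, hi⟩) := by
    rw [mul_entry_single (m₀ := Sum.inr ⟨z, hz.1⟩), dAz, one_mul, hB, E4, mul_one]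
    intro m hm h1 h3
    exact hm (LB _ m _ h1 h3 (by simp [wtI, hgz]) (by simp [wtI])).symm
  have E6 : (D.x F z e * (u₁ : Matrix D.Idx D.Idx F)) (Sum.inr ⟨s, hs.1⟩) (Sum.inr ⟨r, hr.1⟩)
      = D.x F z e (Sum.inr ⟨s, hs.1⟩) (Sum.inr ⟨r, hr.1⟩) * 1 := by
    rw [mul_entry_single (m₀ := Sum.inr ⟨r, hr.1⟩), dU1r]
    intro m hm h1 h3
    have h4 := LC _ m _ h1 h3 (by simp [wtI, hgr, hGs]) (by simp [wtI, hLs])
    exact hm (hG.wt_root hSL hr h4)
  have E5 : (D.x F r c * ((hG.xU hz.1 e * u₁ : GL D.Idx F) : Matrix D.Idx D.Idx F)) (Sum.inr ⟨s, hs.1⟩) (Sum.inr ⟨r, hr.1⟩)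
      = D.x F z e (Sum.inr ⟨s, hs.1⟩) (Sum.inr ⟨r, hr.1⟩) := by
    rw [mul_entry_single (m₀ := Sum.inr ⟨s, hs.1⟩), dAs, one_mul, hB, E6, mul_one]
    intro m hm h1 h3
    exact hm (LB _ m _ h1 h3 (by simp [wtI, hgr, hGs]) (by simp [wtI, hLs])).symm
  rw [hG.x_cartan_entry hr.1] at E1
  rw [hG.x_chain_entry hr.1 hz.1 hs.1 e1 hzr (hG.pos_ne_neg hz hr) hsz] at E2
  rw [hG.x_cartan_entry hz.1] at E3
  rw [hG.x_chain_entry hz.1 hr.1 hs.1 e2 (Ne.symm hzr) (hG.pos_ne_neg hr hz) hsr] at E5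
  rw [← hV] at E1 E2 E3 E5
  generalize hVd : ((hG.xU hr.1 c * (hG.xU hz.1 e * u₁) : GL D.Idx F) : Matrix D.Idx D.Idx F) = V at E1 E2 E3 E5 dVh dVs
  -- the square
  have h0 : (V * V) (Sum.inr ⟨s, hs.1⟩) (Sum.inl ⟨i, hi⟩) = 0 := by
    have : V * V = 1 := by
      rw [← hVd, ← Units.val_mul, h2]
      rfl
    rw [this, Matrix.one_apply_ne (by simp)]
  have hf : ∀ m, m ∉ ({Sum.inl ⟨i, hi⟩, Sum.inr ⟨r, hr.1⟩, Sum.inr ⟨z, hz.1⟩, Sum.inr ⟨s, hs.1⟩} : Finset D.Idx) →
      V (Sum.inr ⟨s, hs.1⟩) m * V m (Sum.inl ⟨i, hi⟩) = 0 := by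
    intro m hm
    by_contra hne
    have h1 := left_ne_zero_of_mul hne
    have h3 := right_ne_zero_of_mul hne
    rw [← hVd] at h1 h3
    obtain ⟨a, b, ha, ha'⟩ := P3 _ _ h1
    obtain ⟨a', b', hb, hb'⟩ := P3 _ _ h3
    have g1 : wtI (fun w => D.pairing r w) (Sum.inr ⟨s, hs.1⟩ : D.Idx) = 1 := hGs
    have g2 : wtI L (Sum.inr ⟨s, hs.1⟩ : D.Idx) = L z + L r := hLs
    have g3 : wtI (fun w => D.pairing r w) (Sum.inl ⟨i, hi⟩ : D.Idx) = 0 := rfl
    have g4 : wtI L (Sum.inl ⟨i, hi⟩ : D.Idx) = 0 := rfl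
    dsimp only at ha ha' hb hb'
    rw [g1] at ha
    rw [g2] at ha'
    rw [g3] at hb
    rw [g4] at hb'
    have hk1 : 2 * ((a : ℤ) + a') - ((b : ℤ) + b') = 1 := by omega
    have hk2 : ((a : ℤ) + a') * L r + ((b : ℤ) + b') * L z ≤ L z + L r := by linarith
    have hA : (a : ℤ) + a' = 1 := by
      by_contra h9
      have h10 : (2 : ℤ) ≤ (a : ℤ) + a' := by omega
      have h12 : (3 : ℤ) ≤ (b : ℤ) + b' := by omega
      have h11 := mul_le_mul_of_nonneg_right h10 hLr.le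
      have h13 := mul_le_mul_of_nonneg_right h12 hLz.le
      omega
    have hB' : (b : ℤ) + b' = 1 := by omega
    have hexact : wtI L m = (a' : ℤ) * L r + (b' : ℤ) * L z := by
      have h5 : (a : ℤ) * L r + (a' : ℤ) * L r = L r := by
        rw [← add_mul, hA, one_mul]
      have h6 : (b : ℤ) * L z + (b' : ℤ) * L z = L z := by
        rw [← add_mul, hB', one_mul]
      linarith
    apply hm
    simp only [Finset.mem_insert, Finset.mem_singleton]
    have ha1 : (a' : ℤ) = 0 ∨ (a' : ℤ) = 1 := by omega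
    have hb1 : (b' : ℤ) = 0 ∨ (b' : ℤ) = 1 := by omega
    rcases ha1 with ha1 | ha1 <;> rcases hb1 with hb1 | hb1 <;> rw [ha1, hb1] at hexact
    · left
      have h4 : wtI L m = 0 := by simpa using hexact
      obtain ⟨j, rfl⟩ := hG.wt_zero hSL h4
      rw [hG.block hSL hS3 hv] at h3
      by_cases hj : j = ⟨i, hi⟩
      · rw [hj]
      · rw [if_neg hj] at h3
        exact absurd rfl h3
    · right; right; left
      exact hG.wt_root hSL hz (by simpa using hexact)
    · right; left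
      exact hG.wt_root hSL hr (by simpa using hexact)
    · right; right; right
      exact hG.wt_root hSL hs (by rw [hexact, hLs]; ring)
  have hsum := Finset.sum_subset (Finset.subset_univ ({Sum.inl ⟨i, hi⟩, Sum.inr ⟨r, hr.1⟩, Sum.inr ⟨z, hz.1⟩, Sum.inr ⟨s, hs.1⟩} : Finset D.Idx))
    (f := fun m => V (Sum.inr ⟨s, hs.1⟩) m * V m (Sum.inl ⟨i, hi⟩)) (fun m _ hm => hf m hm)
  rw [Matrix.mul_apply] at h0
  rw [h0] at hsum
  have hnez : (⟨z, hz.1⟩ : Fin D.nroots) ≠ ⟨s, hs.1⟩ := fun h => hsz (congrArg Fin.val h).symm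
  have hnerz : (⟨r, hr.1⟩ : Fin D.nroots) ≠ ⟨z, hz.1⟩ := fun h => hzr (congrArg Fin.val h).symm
  have hners : (⟨r, hr.1⟩ : Fin D.nroots) ≠ ⟨s, hs.1⟩ := fun h => hsr (congrArg Fin.val h).symm
  rw [Finset.sum_insert (by simp), Finset.sum_insert (by simp [hnerz, hners]), Finset.sum_insert (by simp [hnez]),
    Finset.sum_singleton, dVh, dVs, E1, E2, E3, E5, odd_cast_char_two hms, odd_cast_char_two hns] at hsum
  have h5 : V (Sum.inr ⟨s, hs.1⟩) (Sum.inl ⟨i, hi⟩) + V (Sum.inr ⟨s, hs.1⟩) (Sum.inl ⟨i, hi⟩) = 0 := add_self_char_two _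
  have hsum' : V (Sum.inr ⟨s, hs.1⟩) (Sum.inl ⟨i, hi⟩) * 1 + (1 * e * (- ((D.cartan i r : ℤ) : F) * c * 1) + (1 * c * 1 * (- ((D.cartan i z : ℤ) : F) * e) + 1 * V (Sum.inr ⟨s, hs.1⟩) (Sum.inl ⟨i, hi⟩))) = 0 := hsum
  have h6 : (c * e) * (((D.cartan i r + D.cartan i z : ℤ)) : F) = 0 := by
    push_cast
    linear_combination (-1 : F) * hsum' + h5
  rwa [odd_cast_char_two hodd, mul_one] at h6

/-- The second loop: the terms of grade minus one vanish. -/
lemma step2 [CharP F 2] (hSL : SLFacts D L) (hP : CP D P) {r : ℕ} (hr : PR D r) (hPr : P r) {c : F} (hc : c ≠ 0) :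
    ∀ (m k : ℕ), k + m = D.nroots → r < k → ∀ u ∈ rootsGen D F (R2 D P r k),
      (hG.xU hr.1 c * u) * (hG.xU hr.1 c * u) = 1 → u ∈ rootsGen D F (R2 D P r D.nroots) := by
  intro m
  induction m with
  | zero =>
    intro k hk _ u hu _
    have : k = D.nroots := by omega
    subst this
    exact hu
  | succ m ih =>
    intro k hk hrk u hu h2
    have hk' : k < D.nroots := by omega
    by_cases hcase : P k ∧ D.pairing r k = -1
    · obtain ⟨hPk, hg1⟩ := hcase
      have hpk := hP.pos k hPk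
      obtain ⟨e, u₁, hu₁, rfl⟩ := hG.gen_decomp hpk.1 (S := R2 D P r k) (S' := R2 D P r (k + 1))
        (fun w hw => by
          rcases hw with ⟨h1, h2, h3⟩
          rcases h3 with h3 | ⟨h3, h4⟩
          · exact Or.inr ⟨h1, h2, Or.inl h3⟩
          · rcases Nat.eq_or_lt_of_le h4 with e | e
            · exact Or.inl e.symm
            · exact Or.inr ⟨h1, h2, Or.inr ⟨h3, e⟩⟩)
        (fun t => hG.xU_normalizes _ (fun w hw => (hP.pos w hw.1).1) hpk.1 (fun a ha => by
          by_cases hne : a = k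
          · exact Or.inl hne
          have hpa := hP.pos a ha.1
          refine Or.inr ⟨hne, hG.pos_ne_neg hpa hpk, fun c hc => ?_⟩
          have ho := hG.commTerms_order hpk.1 hpa.1 hpk.2 hpa.2 hne hc
          have h1 := hSL.add k a hpk hpa (Ne.symm hne) c hc (fun w => D.pairing r w) (hG.addF_pairing r)
          have hcl := hG.commTerms_lt hpk.1 hpa.1 c hc
          have hcp : PR D c.1 := ⟨hcl, by have := hpk.2; omega⟩
          have h3 := hSL.gr r c.1 hr hcp (by have := ha.2.1; omega)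
          refine ⟨hP.add k a hPk ha.1 (Ne.symm hne) c hc, by have := ha.2.1; omega, ?_⟩
          rcases ha.2.2 with h4 | ⟨h4, _⟩
          · right
            rw [h1, hg1, h4]
            exact ⟨rfl, by omega⟩
          · rw [h1, hg1, h4] at h3
            omega) t) hu
      have hz := hG.step2_key hSL hP hr hpk hrk hPr hPk hg1 hu₁ h2
      have he : e = 0 := by
        rcases mul_eq_zero.1 hz with h | h
        · exact absurd h hc
        · exact h
      subst he
      rw [hG.xU_zero', one_mul] at h2 ⊢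
      exact ih (k + 1) (by omega) (by omega) u₁ hu₁ h2
    · refine ih (k + 1) (by omega) (by omega) u (rootsGen_mono0 (fun w hw => ?_) hu) h2
      rcases hw with ⟨h1, h3, h4⟩
      refine ⟨h1, h3, ?_⟩
      rcases h4 with h4 | ⟨h4, h5⟩
      · exact Or.inl h4
      · rcases Nat.eq_or_lt_of_le h5 with e | e
        · subst e
          exact absurd ⟨h1, h4⟩ hcase
        · exact Or.inr ⟨h4, e⟩

/-- One step of the elimination. -/
theorem elim_step [CharP F 2] (hSL : SLFacts D L) (hP : CP D P) {v : GL D.Idx F} (hv : v ∈ rootsGen D F P)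
    (h2 : v * v = 1) (h1 : v ≠ 1) :
    ∃ r, ∃ hr : PR D r, ∃ c : F, ∃ g ∈ rootsGen D F P, ∃ u ∈ rootsGen D F (fun w => P w ∧ D.pairing r w = 0),
      P r ∧ c ≠ 0 ∧ g * v * g⁻¹ = hG.xU hr.1 c * u := by
  have hv' : v ∈ rootsGen D F (fun w => P w ∧ 0 ≤ w) := rootsGen_mono0 (fun w hw => ⟨hw, Nat.zero_le _⟩) hv
  obtain ⟨r, hr, c, u, hu, hPr, hc, rfl⟩ := hG.exists_first hP D.nroots 0 (by omega) v hv' h1
  have hpr := hP.pos r hPr
  have hu1 : u ∈ rootsGen D F (Q1 D P r (r + 1)) :=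
    rootsGen_mono0 (fun w hw => ⟨hw.1, by have := hw.2; omega, Or.inr hw.2⟩) hu
  obtain ⟨g, hg, u', hu', eg⟩ := hG.step1 hSL hP hr hPr hc (D.nroots - (r + 1)) (r + 1) (by omega) (by omega) u hu1
  refine ⟨r, hpr, c, g, hg, u', ?_, hPr, hc, eg⟩
  have hu2 : u' ∈ rootsGen D F (R2 D P r (r + 1)) := by
    refine rootsGen_mono0 (fun w hw => ?_) hu'
    rcases hw with ⟨h3, h4, h5⟩
    have hpw := hP.pos w h3
    have h6 := hSL.gr r w hpr hpw (by omega)
    refine ⟨h3, h4, ?_⟩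
    rcases h5 with h5 | h5
    · rcases h6 with h6 | h6 | h6
      · exact Or.inr ⟨h6, by omega⟩
      · exact Or.inl h6
      · omega
    · have := hpw.1
      omega
  have h3 : (hG.xU hpr.1 c * u') * (hG.xU hpr.1 c * u') = 1 := by
    rw [← eg]
    have e : g * (hG.xU hr c * u) * g⁻¹ * (g * (hG.xU hr c * u) * g⁻¹) = g * ((hG.xU hr c * u) * (hG.xU hr c * u)) * g⁻¹ := by
      group
    rw [e, h2]
    simp
  have h4 := hG.step2 hSL hP hpr hPr hc (D.nroots - (r + 1)) (r + 1) (by omega) (by omega) u' hu2 h3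
  refine rootsGen_mono0 (fun w hw => ⟨hw.1, ?_⟩) h4
  rcases hw.2.2 with h5 | ⟨_, h5⟩
  · exact h5
  · have := (hP.pos w hw.1).1
    omega

lemma xU_comm_nil {r s : ℕ} (hr : r < D.nroots) (hs : s < D.nroots) (h1 : s ≠ r) (h2 : s ≠ D.neg r)
    (h : D.commTerms r s = []) (t u : F) : hG.xU hs u * hG.xU hr t = hG.xU hr t * hG.xU hs u := by
  apply Units.ext
  simp only [Units.val_mul, hG.xU_coe]
  rw [hG.x_comm hr hs h1 h2 t u]
  unfold ChevalleyDatum.commWord
  rw [h]
  simp [wordMat_nil]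

/-- Commuting with a group generated by orthogonal root elements. -/
lemma comm_rootsGen (hSL : SLFacts D L) {r : ℕ} (hr : PR D r) {S : ℕ → Prop} (hS : ∀ w, S w → PR D w ∧ D.pairing r w = 0)
    (c : F) {g : GL D.Idx F} (hg : g ∈ rootsGen D F S) : Commute (hG.xU hr.1 c) g := by
  induction hg using Subgroup.closure_induction with
  | mem g hg =>
    obtain ⟨w, t, hw, e⟩ := hg
    rw [hG.eq_xU (hS w hw).1.1 e]
    have hne : w ≠ r := by
      rintro rfl
      have h1 := (hS w hw).2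
      rw [hSL.self w hr] at h1
      omega
    exact (hG.xU_comm_nil hr.1 (hS w hw).1.1 hne (hG.pos_ne_neg (hS w hw).1 hr)
      (hSL.g0 r w hr (hS w hw).1 (hS w hw).2) c t).symm
  | one => exact Commute.one_right _
  | mul a b _ _ ha hb => exact ha.mul_right hb
  | inv a _ ha => exact ha.inv_right

/-- The root sets stay closed. -/
lemma cp_perp (hSL : SLFacts D L) (hP : CP D P) (r : ℕ) : CP D (fun w => P w ∧ D.pairing r w = 0) where
  pos w hw := hP.pos w hw.1
  add a b ha hb hne c hc := by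
    refine ⟨hP.add a b ha.1 hb.1 hne c hc, ?_⟩
    rw [hSL.add a b (hP.pos a ha.1) (hP.pos b hb.1) hne c hc (fun w => D.pairing r w) (hG.addF_pairing r), ha.2, hb.2]
    rfl
  sub s d k m hk hs hd hne h := by
    refine ⟨hP.sub s d k m hk.1 hs.1 hd hne h, ?_⟩
    have h1 := hSL.add s d (hP.pos s hs.1) hd hne (k, m, 1, 1) (by rw [h]; simp) (fun w => D.pairing r w) (hG.addF_pairing r)
    simp only at h1
    rw [hk.2, hs.2] at h1
    omega

/-- The elimination: an involution in the group of a closed set of positive roots is conjugate in this group to a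
product of root elements of orthogonal roots. -/
theorem elim_all [CharP F 2] (hSL : SLFacts D L) :
    ∀ (N : ℕ) (P : ℕ → Prop), CP D P → (∀ Q : Finset ℕ, (∀ w ∈ Q, P w) → Q.card ≤ N) →
      ∀ v ∈ rootsGen D F P, v * v = 1 →
      ∃ (l : List (ℕ × F)), ∃ g ∈ rootsGen D F P, g * v * g⁻¹ = hG.gW l ∧ (∀ e ∈ l, P e.1 ∧ e.2 ≠ 0) ∧
        l.Pairwise (fun a b => D.pairing a.1 b.1 = 0) := by
  intro N
  induction N with
  | zero =>
    intro P hP hN v hv h2
    by_cases h1 : v = 1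
    · exact ⟨[], 1, Subgroup.one_mem _, by simp [h1], by simp, by simp⟩
    · exfalso
      obtain ⟨r, _, _, _, _, _, _, hPr, _⟩ := hG.elim_step hSL hP hv h2 h1
      have := hN {r} (by simpa using hPr)
      simp at this
  | succ N ih =>
    intro P hP hN v hv h2
    by_cases h1 : v = 1
    · exact ⟨[], 1, Subgroup.one_mem _, by simp [h1], by simp, by simp⟩
    obtain ⟨r, hr, c, g, hg, u, hu, hPr, hc, e⟩ := hG.elim_step hSL hP hv h2 h1
    have hS' : ∀ w, (P w ∧ D.pairing r w = 0) → PR D w ∧ D.pairing r w = 0 :=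
      fun w hw => ⟨hP.pos w hw.1, hw.2⟩
    have hcomm := hG.comm_rootsGen hSL hr hS' c hu
    have hsq : hG.xU hr.1 c * hG.xU hr.1 c = 1 := by
      rw [hG.xU_mul, add_self_char_two, hG.xU_zero']
    have hu2 : u * u = 1 := by
      have h3 : (hG.xU hr.1 c * u) * (hG.xU hr.1 c * u) = 1 := by
        rw [← e]
        have e' : g * v * g⁻¹ * (g * v * g⁻¹) = g * (v * v) * g⁻¹ := by group
        rw [e', h2]
        simp
      calc u * u = (hG.xU hr.1 c * hG.xU hr.1 c) * (u * u) := by rw [hsq, one_mul]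
        _ = hG.xU hr.1 c * (hG.xU hr.1 c * u) * u := by group
        _ = hG.xU hr.1 c * (u * hG.xU hr.1 c) * u := by rw [hcomm.eq]
        _ = (hG.xU hr.1 c * u) * (hG.xU hr.1 c * u) := by group
        _ = 1 := h3
    have hrr : ¬ (P r ∧ D.pairing r r = 0) := by
      intro h
      have := h.2
      rw [hSL.self r hr] at this
      omega
    obtain ⟨l, g', hg', e', hl, hp⟩ := ih _ (hG.cp_perp hSL hP r) (fun Q hQ => by
      have hnot : r ∉ Q := fun h => hrr (hQ r h)
      have h3 := hN (insert r Q) (fun w hw => by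
        rcases Finset.mem_insert.1 hw with rfl | hw
        · exact hPr
        · exact (hQ w hw).1)
      rw [Finset.card_insert_of_notMem hnot] at h3
      omega) u hu hu2
    have hcomm' := hG.comm_rootsGen hSL hr hS' c hg'
    refine ⟨(r, c) :: l, g' * g, Subgroup.mul_mem _ (rootsGen_mono0 (fun w hw => hw.1) hg') hg, ?_, ?_, ?_⟩
    · rw [hG.gW_cons]
      simp only
      rw [hG.xN_of_lt hr.1, ← e']
      calc g' * g * v * (g' * g)⁻¹ = g' * (g * v * g⁻¹) * g'⁻¹ := by group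
        _ = g' * (hG.xU hr.1 c * u) * g'⁻¹ := by rw [e]
        _ = (g' * hG.xU hr.1 c) * u * g'⁻¹ := by group
        _ = (hG.xU hr.1 c * g') * u * g'⁻¹ := by rw [hcomm'.eq]
        _ = _ := by group
    · intro x hx
      rcases List.mem_cons.1 hx with rfl | hx
      · exact ⟨hPr, hc⟩
      · exact ⟨(hl x hx).1.1, (hl x hx).2⟩
    · refine List.pairwise_cons.2 ⟨fun x hx => (hl x hx).1.2, hp⟩

end Tbl.Good2

end

end Cfsg.Agent.Lib.Chev
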