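/-
Involutions in simply laced Chevalley groups in characteristic two: the Weyl group and the torus acting on products of
root elements of orthogonal roots.
-/
import Cfsg.Agent.Lib.ChInv.Elim

set_option autoImplicit false

namespace Cfsg.Agent.Lib.Chev

open Cfsg.Lie

/-- Orthogonality in both directions. -/
def Or2 (D : ChevalleyDatum) (a b : ℕ) : Prop := D.pairing a b = 0 ∧ D.pairing b a = 0

lemma Or2.symm' {D : ChevalleyDatum} {a b : ℕ} (h : Or2 D a b) : Or2 D b a := ⟨h.2, h.1⟩

/-- The facts of the Weyl group action on the roots used below. -/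
structure TreeFacts (T : Tbl) (D : ChevalleyDatum) : Prop where
  up : ∀ i z, i < D.rank → z < D.nroots → T.cart i z < 0 → z < T.refl i z
  fix : ∀ i z, i < D.rank → z < D.nroots → T.cart i z = 0 → T.refl i z = z
  orth : ∀ a b, a < D.nroots → b < D.nroots → D.pairing a b = 0 → a ≠ b ∧ b ≠ D.neg a ∧ D.commTerms a b = []

/-- Roots in a standard subsystem. -/
noncomputable def inJb (T : Tbl) (J : List ℕ) (z : ℕ) : Bool :=
  (List.range T.l).all fun i => J.contains i || decide (T.cor z i = 0)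

/-- The roots of a standard subsystem which are dominant for this subsystem. -/
noncomputable def domL (T : Tbl) (J : List ℕ) : List ℕ :=
  (List.range T.n).filter fun z => inJb T J z && J.all fun i => decide (0 ≤ T.cart i z)

/-- The check over the tree of chains of dominant roots. -/
noncomputable def chkTree (T : Tbl) (ok : List ℕ → Bool) : ℕ → List ℕ → List ℕ → Bool
  | 0, J, A => ok A && (domL T J).isEmpty
  | f + 1, J, A => ok A && (domL T J).all fun z =>
      chkTree T ok f (J.filter fun j => decide (T.cart j z = 0)) (A ++ [z])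

section

variable {F : Type*} [Field F] {D : ChevalleyDatum} {T : Tbl}

lemma sq_eq_one_char_two [CharP F 2] {x : F} (h : x * x = 1) : x = 1 := by
  have h2 : (2 : F) = 0 := by
    have := CharP.cast_eq_zero F 2
    simpa using this
  have h3 : (x + 1) * (x + 1) = 0 := by
    have : (x + 1) * (x + 1) = x * x + 2 * x + 1 := by ring
    rw [this, h, h2, zero_mul, add_zero]
    exact add_self_char_two 1
  have h4 : x + 1 = 0 := by
    rcases mul_eq_zero.1 h3 with h5 | h5 <;> exact h5
  have h5 := add_self_char_two (F := F) 1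
  exact add_right_cancel (h4.trans h5.symm)

namespace Tbl.Good2

variable (hG : T.Good2 D) {L' : ℕ → ℤ}

/-- The product of the root elements with parameter one. -/
noncomputable def xL (L : List ℕ) : GL D.Idx F := hG.gW (L.map fun r => (r, (1 : F)))

include hG

lemma xL_nil : hG.xL ([] : List ℕ) = (1 : GL D.Idx F) := rfl

lemma xL_cons (r : ℕ) (L : List ℕ) : hG.xL (r :: L) = (hG.xN r 1 * hG.xL L : GL D.Idx F) := by
  simp [xL, gW_cons]

lemma xL_append (a b : List ℕ) : hG.xL (a ++ b) = (hG.xL a * hG.xL b : GL D.Idx F) := by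
  simp [xL, gW_append]

lemma xL_mem (L : List ℕ) : (hG.xL L : GL D.Idx F) ∈ D.group F := hG.gW_mem _

lemma xL_eq_prod (L : List ℕ) : (hG.xL L : GL D.Idx F) = (L.map fun r => (hG.xN r 1 : GL D.Idx F)).prod := by
  simp [xL, gW, List.map_map, Function.comp_def]

lemma xN_comm_orth (hF : TreeFacts T D) {a b : ℕ} (ha : a < D.nroots) (hb : b < D.nroots) (h : D.pairing a b = 0)
    (s t : F) : hG.xN a s * hG.xN b t = hG.xN b t * hG.xN a s := by
  obtain ⟨h1, h2, h3⟩ := hF.orth a b ha hb h
  rw [hG.xN_of_lt ha, hG.xN_of_lt hb]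
  exact (hG.xU_comm_nil ha hb (Ne.symm h1) h2 h3 s t).symm

lemma xL_perm (hF : TreeFacts T D) {L L' : List ℕ} (hL : ∀ r ∈ L, r < D.nroots) (hp : L.Pairwise (Or2 D)) (h : L.Perm L') :
    (hG.xL L : GL D.Idx F) = hG.xL L' := by
  rw [hG.xL_eq_prod, hG.xL_eq_prod]
  apply List.Perm.prod_eq' (h.map _)
  rw [List.pairwise_map]
  refine (List.Pairwise.imp_of_mem ?_ hp)
  intro a b ha hb hab
  exact hG.xN_comm_orth hF (hL a ha) (hL b hb) hab.1 1 1

lemma nU_xN [CharP F 2] {i r : ℕ} (hi : i < D.rank) (hr : r < D.nroots) (t : F) :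
    hG.nU hi * hG.xN r t * (hG.nU hi)⁻¹ = hG.xN (T.refl i r) t := by
  rw [hG.xN_of_lt hr, hG.nU_conj hi hr, hG.xN_of_lt (hG.refl_lt' hi hr),
    sq_eq_one_char_two (hG.eps_mul_self hi hr), one_mul]

lemma nU_xL [CharP F 2] {i : ℕ} (hi : i < D.rank) (L : List ℕ) (hL : ∀ r ∈ L, r < D.nroots) :
    hG.nU hi * (hG.xL L : GL D.Idx F) * (hG.nU hi)⁻¹ = hG.xL (L.map (T.refl i)) := by
  induction L with
  | nil => simp [xL_nil]
  | cons r L ih =>
    rw [List.map_cons, hG.xL_cons, hG.xL_cons, ← ih (fun s hs => hL s (List.mem_cons_of_mem _ hs)),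
      ← hG.nU_xN hi (hL r (by simp))]
    group

lemma nU_mem_group {i : ℕ} (hi : i < D.rank) : hG.nU (F := F) hi ∈ D.group F :=
  hG.N_le_group (hG.nU_mem_N hi)

lemma wperm_lt' {l : List ℕ} (hl : ∀ i ∈ l, i < D.rank) {r : ℕ} (hr : r < D.nroots) :
    wperm T l r < D.nroots := hG.wperm_lt hl hr

/-- The Weyl group acts on the products of root elements. -/
lemma exists_conj_wperm [CharP F 2] (w : List ℕ) (hw : ∀ i ∈ w, i < D.rank) (L : List ℕ) (hL : ∀ r ∈ L, r < D.nroots) :
    ∃ g ∈ D.group F, g * (hG.xL L : GL D.Idx F) * g⁻¹ = hG.xL (L.map (wperm T w)) := by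
  induction w with
  | nil =>
    refine ⟨1, Subgroup.one_mem _, ?_⟩
    have : L.map (wperm T []) = L := List.map_id' L
    rw [this]
    simp
  | cons i w ih =>
    obtain ⟨g, hg, e⟩ := ih fun j hj => hw j (List.mem_cons_of_mem _ hj)
    have hi := hw i (by simp)
    refine ⟨hG.nU hi * g, Subgroup.mul_mem _ (hG.nU_mem_group hi) hg, ?_⟩
    have e2 := hG.nU_xL (F := F) hi (L.map (wperm T w)) (fun r hr => by
      obtain ⟨s, hs, rfl⟩ := List.mem_map.1 hr
      exact hG.wperm_lt (fun j hj => hw j (List.mem_cons_of_mem _ hj)) (hL s hs))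
    rw [List.map_map] at e2
    have e3 : (T.refl i ∘ wperm T w) = wperm T (i :: w) := by
      funext r
      rfl
    rw [e3] at e2
    rw [← e2, ← e]
    group

lemma or2_refl {i a b : ℕ} (hi : i < D.rank) (ha : a < D.nroots) (hb : b < D.nroots) (h : Or2 D a b) :
    Or2 D (T.refl i a) (T.refl i b) := by
  have key : ∀ {a b : ℕ}, a < D.nroots → b < D.nroots → D.pairing (T.refl i a) (T.refl i b) = D.pairing a b := by
    intro a b ha hb
    have h1 := hG.pairing_refl hi ha (hG.refl_lt' hi hb)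
    rw [(hG.facts).refl_refl i b (hG.lt_l hi) (hG.lt_n hb)] at h1
    exact h1.symm
  exact ⟨(key ha hb).trans h.1, (key hb ha).trans h.2⟩

lemma or2_wperm {w : List ℕ} (hw : ∀ i ∈ w, i < D.rank) {a b : ℕ} (ha : a < D.nroots) (hb : b < D.nroots) (h : Or2 D a b) :
    Or2 D (wperm T w a) (wperm T w b) := by
  induction w with
  | nil => exact h
  | cons i w ih =>
    have hw' : ∀ j ∈ w, j < D.rank := fun j hj => hw j (List.mem_cons_of_mem _ hj)
    exact hG.or2_refl (hw i (by simp)) (hG.wperm_lt hw' ha) (hG.wperm_lt hw' hb) (ih hw')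

lemma pairwise_wperm {w : List ℕ} (hw : ∀ i ∈ w, i < D.rank) {L : List ℕ} (hL : ∀ r ∈ L, r < D.nroots)
    (hp : L.Pairwise (Or2 D)) : (L.map (wperm T w)).Pairwise (Or2 D) := by
  rw [List.pairwise_map]
  exact List.Pairwise.imp_of_mem (fun ha hb h => hG.or2_wperm hw (hL _ ha) (hL _ hb) h) hp

lemma inRootSub_wperm {J : List ℕ} {w : List ℕ} (hw : ∀ i ∈ w, i ∈ J) (hJ : ∀ j ∈ J, j < D.rank) {z : ℕ}
    (h : D.InRootSub {j | j ∈ J} z) : D.InRootSub {j | j ∈ J} (wperm T w z) := by
  induction w with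
  | nil => exact h
  | cons i w ih =>
    have hi := hw i (by simp)
    exact hG.inRootSub_refl (hJ i hi) hi (ih fun j hj => hw j (List.mem_cons_of_mem _ hj))

omit hG in
lemma wperm_fix (hF : TreeFacts T D) {w J : List ℕ} (hw : ∀ i ∈ w, i ∈ J) (hJ : ∀ j ∈ J, j < D.rank) {a : ℕ}
    (ha : a < D.nroots) (h : ∀ j ∈ J, T.cart j a = 0) : wperm T w a = a := by
  induction w with
  | nil => rfl
  | cons i w ih =>
    rw [wperm_cons, ih fun j hj => hw j (List.mem_cons_of_mem _ hj)]
    have hi := hw i (by simp)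
    exact hF.fix i a (hJ i hi) ha (h i hi)

/-- Moving a root to a dominant root of the subsystem. -/
lemma exists_dom (hF : TreeFacts T D) {J : List ℕ} (hJ : ∀ j ∈ J, j < D.rank) :
    ∀ (N z : ℕ), z < D.nroots → D.nroots - z ≤ N → D.InRootSub {j | j ∈ J} z →
      ∃ w : List ℕ, (∀ i ∈ w, i ∈ J) ∧ D.InRootSub {j | j ∈ J} (wperm T w z) ∧ ∀ j ∈ J, 0 ≤ T.cart j (wperm T w z) := by
  intro N
  induction N with
  | zero =>
    intro z hz h
    omega
  | succ N ih =>
    intro z hz h hin
    by_cases hd : ∀ j ∈ J, 0 ≤ T.cart j z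
    · exact ⟨[], by simp, hin, hd⟩
    · push_neg at hd
      obtain ⟨j, hj, hneg⟩ := hd
      have h1 := hF.up j z (hJ j hj) hz hneg
      have h2 := hG.refl_lt' (hJ j hj) hz
      obtain ⟨w, hw, h3, h4⟩ := ih (T.refl j z) h2 (by omega) (hG.inRootSub_refl (hJ j hj) hj hin)
      refine ⟨w ++ [j], ?_, ?_, ?_⟩
      · intro i hi
        rcases List.mem_append.1 hi with hi | hi
        · exact hw i hi
        · rw [List.mem_singleton.1 hi]
          exact hj
      · rw [wperm_append]
        exact h3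
      · rw [wperm_append]
        exact h4

/-- A root of the subsystem orthogonal to a dominant root lies in the smaller subsystem. -/
lemma perp_inJ {J : List ℕ} {z y : ℕ} (hz : z < D.nroots) (hJ : ∀ j ∈ J, j < D.rank)
    (hdom : ∀ j ∈ J, 0 ≤ T.cart j z) (hy : D.InRootSub {j | j ∈ J} y) (h : D.pairing y z = 0) :
    D.InRootSub {j | j ∈ J.filter fun j => decide (T.cart j z = 0)} y := by
  refine ⟨hy.1, fun i hi hni => ?_⟩
  by_cases hiJ : i ∈ J
  · have hne : T.cart i z ≠ 0 := by
      intro h0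
      apply hni
      simp only [Set.mem_setOf_eq, List.mem_filter, decide_eq_true_eq]
      exact ⟨hiJ, h0⟩
    have hC := hG.correct
    rw [pairing_eq_sum] at h
    by_contra hcor
    have hterm : ∀ k ∈ Finset.range D.rank, 0 ≤ (D.coroot.getD y #[]).getD k 0 * D.cartan k z ∨
        (D.coroot.getD y #[]).getD k 0 * D.cartan k z ≤ 0 := fun k _ => le_total _ _
    by_cases hpos : D.nroots / 2 ≤ y
    · have hp := (hG.isPos_iff hy.1).2 hpos
      have hnn : ∀ k ∈ Finset.range D.rank, 0 ≤ (D.coroot.getD y #[]).getD k 0 * D.cartan k z := by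
        intro k hk
        have hk' := Finset.mem_range.1 hk
        by_cases hkJ : k ∈ J
        · rw [← hC.cart_eq k z hk' hz]
          exact mul_nonneg (isPos_coord hp k) (hdom k hkJ)
        · rw [hy.2 k hk' hkJ, zero_mul]
      have h1 := (Finset.sum_eq_zero_iff_of_nonneg hnn).1 h i (Finset.mem_range.2 hi)
      rw [← hC.cart_eq i z hi hz] at h1
      rcases mul_eq_zero.1 h1 with h2 | h2
      · exact hcor h2
      · exact hne h2
    · have hp := (hG.isNeg_iff hy.1).2 (by omega)
      have hnn : ∀ k ∈ Finset.range D.rank, (D.coroot.getD y #[]).getD k 0 * D.cartan k z ≤ 0 := by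
        intro k hk
        have hk' := Finset.mem_range.1 hk
        by_cases hkJ : k ∈ J
        · rw [← hC.cart_eq k z hk' hz]
          exact mul_nonpos_of_nonpos_of_nonneg (isNeg_coord hp k) (hdom k hkJ)
        · rw [hy.2 k hk' hkJ, zero_mul]
      have h1 := (Finset.sum_eq_zero_iff_of_nonpos hnn).1 h i (Finset.mem_range.2 hi)
      rw [← hC.cart_eq i z hi hz] at h1
      rcases mul_eq_zero.1 h1 with h2 | h2
      · exact hcor h2
      · exact hne h2
  · exact hy.2 i hi hiJ

lemma mem_domL {J : List ℕ} {z : ℕ} (hz : z < D.nroots) (hin : D.InRootSub {j | j ∈ J} z)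
    (hdom : ∀ j ∈ J, 0 ≤ T.cart j z) : z ∈ domL T J := by
  have hC := hG.correct
  unfold domL
  rw [List.mem_filter, List.mem_range, hC.n_eq]
  refine ⟨hz, ?_⟩
  rw [Bool.and_eq_true]
  constructor
  · unfold inJb
    rw [List.all_eq_true]
    intro i hi
    have hi' := List.mem_range.1 hi
    rw [hC.l_eq] at hi'
    rw [Bool.or_eq_true]
    by_cases hiJ : i ∈ J
    · left
      exact List.contains_iff_mem.2 hiJ
    · right
      rw [decide_eq_true_eq, hC.cor_eq z i hz hi']
      exact hin.2 i hi' hiJ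
  · rw [List.all_eq_true]
    intro i hi
    rw [decide_eq_true_eq]
    exact hdom i hi

/-- Every orthogonal list of roots of a subsystem is carried to a node of the tree. -/
theorem tree_reach' (hF : TreeFacts T D) (ok : List ℕ → Bool) :
    ∀ (k : ℕ) (R : List ℕ), R.length ≤ k → ∀ (f : ℕ) (J A : List ℕ), chkTree T ok f J A = true → (∀ j ∈ J, j < D.rank) →
      (∀ a ∈ A, a < D.nroots) → (∀ a ∈ A, ∀ j ∈ J, T.cart j a = 0) → (∀ z ∈ R, D.InRootSub {j | j ∈ J} z) →
      R.Pairwise (Or2 D) → ∃ w : List ℕ, (∀ i ∈ w, i ∈ J) ∧ ok ((A ++ R).map (wperm T w)) = true := by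
  intro k
  induction k with
  | zero =>
    intro R hl f J A h _ hAl _ _ _
    have hR : R = [] := List.length_eq_zero_iff.1 (by omega)
    subst hR
    refine ⟨[], by simp, ?_⟩
    have e : (A ++ []).map (wperm T []) = A := by
      rw [List.append_nil]
      exact List.map_id' A
    rw [e]
    cases f with
    | zero =>
      simp only [chkTree, Bool.and_eq_true] at h
      exact h.1
    | succ f =>
      simp only [chkTree, Bool.and_eq_true] at h
      exact h.1
  | succ k ih =>
    intro R hl f J A h hJ hAl hA hR hp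
    cases R with
    | nil => exact ih [] (by simp) f J A h hJ hAl hA (by simp) (by simp)
    | cons z R =>
    rw [List.pairwise_cons] at hp
    have hz := hR z (by simp)
    obtain ⟨w₁, hw₁, hin, hdom⟩ := hG.exists_dom hF hJ (D.nroots - z) z hz.1 le_rfl hz
    have hz' := hin.1
    have hm := hG.mem_domL hz' hin hdom
    have hJ' : ∀ j, j ∈ J.filter (fun j => decide (T.cart j (wperm T w₁ z) = 0)) → j ∈ J ∧ T.cart j (wperm T w₁ z) = 0 := by
      intro j hj
      simpa only [List.mem_filter, decide_eq_true_eq] using hj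
    have hw₁' : ∀ i ∈ w₁, i < D.rank := fun i hi => hJ i (hw₁ i hi)
    cases f with
    | zero =>
      simp only [chkTree, Bool.and_eq_true, List.isEmpty_iff] at h
      rw [h.2] at hm
      simp at hm
    | succ f =>
      simp only [chkTree, Bool.and_eq_true, List.all_eq_true] at h
      have h2 := h.2 _ hm
      obtain ⟨w₂, hw₂, hok⟩ := ih (R.map (wperm T w₁)) (by simp at hl ⊢; omega) f _ (A ++ [wperm T w₁ z]) h2 (fun j hj => hJ j (hJ' j hj).1)
        (fun a ha => by
          rcases List.mem_append.1 ha with ha | ha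
          · exact hAl a ha
          · rw [List.mem_singleton.1 ha]
            exact hz')
        (fun a ha j hj => by
          rcases List.mem_append.1 ha with ha | ha
          · exact hA a ha j (hJ' j hj).1
          · rw [List.mem_singleton.1 ha]
            exact (hJ' j hj).2)
        (fun y hy => by
          obtain ⟨y₀, hy₀, rfl⟩ := List.mem_map.1 hy
          have h3 := hG.or2_wperm hw₁' hz.1 (hR y₀ (List.mem_cons_of_mem _ hy₀)).1 (hp.1 y₀ hy₀)
          exact hG.perp_inJ hz' hJ hdom (hG.inRootSub_wperm hw₁ hJ (hR y₀ (List.mem_cons_of_mem _ hy₀))) h3.2)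
        (hG.pairwise_wperm hw₁' (fun y hy => (hR y (List.mem_cons_of_mem _ hy)).1) hp.2)
      refine ⟨w₂ ++ w₁, ?_, ?_⟩
      · intro i hi
        rcases List.mem_append.1 hi with hi | hi
        · exact (hJ' i (hw₂ i hi)).1
        · exact hw₁ i hi
      · have e : (A ++ z :: R).map (wperm T (w₂ ++ w₁)) = (A ++ [wperm T w₁ z] ++ R.map (wperm T w₁)).map (wperm T w₂) := by
          simp only [List.map_append, List.map_cons, List.map_nil, List.map_map, List.append_assoc, List.singleton_append]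
          congr 1
          · apply List.map_congr_left
            intro a ha
            rw [wperm_append, wperm_fix hF hw₁ hJ (hAl a ha) (hA a ha)]
          · congr 1
            · exact wperm_append _ _ _
            · apply List.map_congr_left
              intro a _
              exact wperm_append _ _ _
        rw [e]
        exact hok

/-- Every orthogonal list of roots of a subsystem is carried to a node of the tree. -/
theorem tree_reach (hF : TreeFacts T D) (ok : List ℕ → Bool) (R : List ℕ) (f : ℕ) (J A : List ℕ) (h : chkTree T ok f J A = true)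
    (hJ : ∀ j ∈ J, j < D.rank) (hAl : ∀ a ∈ A, a < D.nroots) (hA : ∀ a ∈ A, ∀ j ∈ J, T.cart j a = 0)
    (hR : ∀ z ∈ R, D.InRootSub {j | j ∈ J} z) (hp : R.Pairwise (Or2 D)) :
    ∃ w : List ℕ, (∀ i ∈ w, i ∈ J) ∧ ok ((A ++ R).map (wperm T w)) = true :=
  hG.tree_reach' hF ok R.length R le_rfl f J A h hJ hAl hA hR hp

/-- The fusion argument: every nonempty orthogonal list of roots is conjugate to a representative. -/
theorem fuse_all [CharP F 2] (hF : TreeFacts T D) (Reps : List (List ℕ)) (F₀ F₀' : List ℕ) {g : GL D.Idx F} (hgG : g ∈ D.group F)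
    (hg0 : g * hG.xL F₀ * g⁻¹ = hG.xL F₀') (hgc : ∀ b, b < D.nroots → (∀ f ∈ F₀, Or2 D f b) → ∀ t : F, g * hG.xN b t * g⁻¹ = hG.xN b t)
    (hsub : F₀'.Sublist F₀) (hlen : F₀'.length < F₀.length) (hne : F₀' ≠ []) (ok : List ℕ → Bool) (fuel : ℕ)
    (htree : chkTree T ok fuel (List.range T.l) [] = true)
    (hok : ∀ A, ok A = true → A = [] ∨ ∃ w : List ℕ, (∀ i ∈ w, i < D.rank) ∧
      ((∃ rep ∈ Reps, (A.map (wperm T w)).Perm rep) ∨ ∃ B, (A.map (wperm T w)).Perm (F₀ ++ B))) :
    ∀ (k : ℕ) (R : List ℕ), R.length ≤ k → (∀ r ∈ R, r < D.nroots) → R.Pairwise (Or2 D) → R ≠ [] →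
      ∃ rep ∈ Reps, ∃ h ∈ D.group F, h * (hG.xL R : GL D.Idx F) * h⁻¹ = hG.xL rep := by
  have hC := hG.correct
  intro k
  induction k with
  | zero =>
    intro R hl _ _ hR
    exact absurd (List.length_eq_zero_iff.1 (by omega)) hR
  | succ k ih =>
    intro R hl hRl hp hR
    have hrange : ∀ j ∈ List.range T.l, j < D.rank := fun j hj => by
      rw [← hC.l_eq]
      exact List.mem_range.1 hj
    obtain ⟨w, hw, hokw⟩ := hG.tree_reach hF ok R fuel (List.range T.l) [] htree hrange (by simp) (by simp)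
      (fun z hz => ⟨hRl z hz, fun i hi hni => by
        exfalso
        apply hni
        show i ∈ List.range T.l
        rw [List.mem_range, hC.l_eq]
        exact hi⟩) hp
    rw [List.nil_append] at hokw
    have hw' : ∀ i ∈ w, i < D.rank := fun i hi => hrange i (hw i hi)
    obtain ⟨g₁, hg₁, e₁⟩ := hG.exists_conj_wperm (F := F) w hw' R hRl
    have hAl : ∀ a ∈ R.map (wperm T w), a < D.nroots := fun a ha => by
      obtain ⟨s, hs, rfl⟩ := List.mem_map.1 ha
      exact hG.wperm_lt hw' (hRl s hs)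
    have hAp := hG.pairwise_wperm hw' hRl hp
    rcases hok _ hokw with h0 | ⟨w₂, hw₂, hc⟩
    · exfalso
      apply hR
      simpa using h0
    obtain ⟨g₂, hg₂, e₂⟩ := hG.exists_conj_wperm (F := F) w₂ hw₂ _ hAl
    have hXl : ∀ a ∈ (R.map (wperm T w)).map (wperm T w₂), a < D.nroots := fun a ha => by
      obtain ⟨s, hs, rfl⟩ := List.mem_map.1 ha
      exact hG.wperm_lt hw₂ (hAl s hs)
    have hXp := hG.pairwise_wperm hw₂ hAl hAp
    rcases hc with ⟨rep, hrep, hperm⟩ | ⟨B, hperm⟩
    · refine ⟨rep, hrep, g₂ * g₁, Subgroup.mul_mem _ hg₂ hg₁, ?_⟩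
      rw [← hG.xL_perm hF hXl hXp hperm, ← e₂, ← e₁]
      group
    · have hpp : (F₀ ++ B).Pairwise (Or2 D) := (hperm.pairwise_iff (fun h => h.symm')).1 hXp
      have hll : ∀ a ∈ F₀ ++ B, a < D.nroots := fun a ha => hXl a (hperm.mem_iff.2 ha)
      have hsub2 : (F₀' ++ B).Sublist (F₀ ++ B) := hsub.append_right B
      have hlen2 : (F₀' ++ B).length ≤ k := by
        have h3 := hperm.length_eq
        simp only [List.length_map, List.length_append] at h3 ⊢
        omega
      obtain ⟨rep, hrep, h, hh, e⟩ := ih (F₀' ++ B) hlen2 (fun a ha => hll a (hsub2.subset ha))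
        (hpp.sublist hsub2) (by simp [hne])
      have hBc : g * (hG.xL B : GL D.Idx F) * g⁻¹ = hG.xL B := by
        have h5 := (List.pairwise_append.1 hpp).2.2
        have h6 : ∀ b ∈ B, b < D.nroots := fun b hb => hll b (List.mem_append_right _ hb)
        clear * - hgc h5 h6
        induction B with
        | nil => simp [xL_nil]
        | cons b B ih =>
          have e1 := ih (fun a ha c hc => h5 a ha c (List.mem_cons_of_mem _ hc)) (fun a ha => h6 a (List.mem_cons_of_mem _ ha))
          have h7 := hgc b (h6 b (by simp)) (fun f hf => h5 f hf b (by simp)) 1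
          have h8 : g * (hG.xN b 1 * hG.xL B) * g⁻¹ = (g * hG.xN b 1 * g⁻¹) * (g * hG.xL B * g⁻¹) := by
            group
          rw [hG.xL_cons, h8, h7, e1]
      refine ⟨rep, hrep, h * g * g₂ * g₁, Subgroup.mul_mem _ (Subgroup.mul_mem _ (Subgroup.mul_mem _ hh hgG) hg₂) hg₁, ?_⟩
      rw [← e, hG.xL_append (F := F), ← hg0, ← hBc]
      have h8 := hG.xL_perm (F := F) hF hXl hXp hperm
      rw [hG.xL_append (F := F)] at h8
      calc h * g * g₂ * g₁ * hG.xL R * (h * g * g₂ * g₁)⁻¹
          = h * (g * (g₂ * (g₁ * hG.xL R * g₁⁻¹) * g₂⁻¹) * g⁻¹) * h⁻¹ := by group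
        _ = h * (g * (hG.xL F₀ * hG.xL B) * g⁻¹) * h⁻¹ := by rw [e₁, e₂, h8]
        _ = _ := by
          group

/-- The torus makes the parameters equal to one. -/
theorem torus [Finite F] [CharP F 2] (hSL : SLFacts D L') :
    ∀ l : List (ℕ × F), (∀ e ∈ l, PR D e.1 ∧ e.2 ≠ 0) → l.Pairwise (fun a b => D.pairing a.1 b.1 = 0) →
      ∃ g ∈ D.group F, g * hG.gW l * g⁻¹ = hG.xL (l.map Prod.fst) ∧
        ∀ w, w < D.nroots → (∀ e ∈ l, D.pairing e.1 w = 0) → ∀ t : F, g * hG.xN w t * g⁻¹ = hG.xN w t := by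
  intro l
  induction l with
  | nil =>
    intro _ _
    exact ⟨1, Subgroup.one_mem _, by simp [xL_nil], fun _ _ _ t => by simp⟩
  | cons e l ih =>
    intro h1 h2
    obtain ⟨r, c⟩ := e
    rw [List.pairwise_cons] at h2
    have h3 := h1 (r, c) (by simp)
    simp only at h3
    obtain ⟨hr, hc⟩ := h3
    obtain ⟨g', hg', e', hc'⟩ := ih (fun x hx => h1 x (List.mem_cons_of_mem _ hx)) h2.2
    have hchar : ringChar F = 2 := ringChar.eq F 2
    obtain ⟨s, hs⟩ := FiniteField.isSquare_of_char_two hchar c⁻¹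
    have hs0 : s ≠ 0 := by
      rintro rfl
      rw [mul_zero] at hs
      exact inv_ne_zero hc hs
    have hH : hG.hU hr.1 hs0 ∈ D.group F := hG.N_le_group ((le_sup_left : _ ≤ D.monomialSubgroup F) (hG.hU_mem hr.1 hs0))
    have hfix : ∀ w, w < D.nroots → D.pairing r w = 0 → ∀ t : F,
        hG.hU hr.1 hs0 * hG.xN w t * (hG.hU hr.1 hs0)⁻¹ = hG.xN w t := by
      intro w hw h0 t
      rw [hG.xN_of_lt hw, hG.hU_conj_x hr.1 hw hs0 t, h0]
      simp
    have hfixL : ∀ L : List ℕ, (∀ w ∈ L, w < D.nroots ∧ D.pairing r w = 0) →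
        hG.hU hr.1 hs0 * (hG.xL L : GL D.Idx F) * (hG.hU hr.1 hs0)⁻¹ = hG.xL L := by
      intro L
      induction L with
      | nil => intro _; simp [xL_nil]
      | cons w L ih =>
        intro hL
        have e1 := ih (fun a ha => hL a (List.mem_cons_of_mem _ ha))
        have e2 := hfix w (hL w (by simp)).1 (hL w (by simp)).2 1
        rw [hG.xL_cons]
        calc hG.hU hr.1 hs0 * (hG.xN w 1 * hG.xL L) * (hG.hU hr.1 hs0)⁻¹
            = (hG.hU hr.1 hs0 * hG.xN w 1 * (hG.hU hr.1 hs0)⁻¹) * (hG.hU hr.1 hs0 * hG.xL L * (hG.hU hr.1 hs0)⁻¹) := by group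
          _ = _ := by rw [e2, e1]
    have hrr : hG.hU hr.1 hs0 * hG.xN r c * (hG.hU hr.1 hs0)⁻¹ = hG.xN r 1 := by
      rw [hG.xN_of_lt hr.1, hG.hU_conj_x hr.1 hr.1 hs0 c, hSL.self r hr, hG.xN_of_lt hr.1]
      congr 1
      have e3 : s ^ (2 : ℤ) = c⁻¹ := by
        rw [hs]
        exact zpow_two s
      rw [e3]
      exact inv_mul_cancel₀ hc
    refine ⟨hG.hU hr.1 hs0 * g', Subgroup.mul_mem _ hH hg', ?_, ?_⟩
    · have hsym : ∀ x ∈ l, D.pairing x.1 r = 0 := fun x hx => by
        have hx' := h1 x (List.mem_cons_of_mem _ hx)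
        rw [hSL.sym x.1 r hx'.1 hr]
        exact h2.1 x hx
      rw [hG.gW_cons, List.map_cons, hG.xL_cons]
      simp only
      have e5 := hc' r hr.1 (fun x hx => hsym x hx) c
      have e6 := hfixL (l.map Prod.fst) (fun w hw => by
        obtain ⟨x, hx, rfl⟩ := List.mem_map.1 hw
        exact ⟨(h1 x (List.mem_cons_of_mem _ hx)).1.1, h2.1 x hx⟩)
      calc hG.hU hr.1 hs0 * g' * (hG.xN r c * hG.gW l) * (hG.hU hr.1 hs0 * g')⁻¹
          = hG.hU hr.1 hs0 * (g' * hG.xN r c * g'⁻¹) * (g' * hG.gW l * g'⁻¹) * (hG.hU hr.1 hs0)⁻¹ := by group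
        _ = (hG.hU hr.1 hs0 * hG.xN r c * (hG.hU hr.1 hs0)⁻¹) * (hG.hU hr.1 hs0 * hG.xL (l.map Prod.fst) * (hG.hU hr.1 hs0)⁻¹) := by
          rw [e5, e']
          group
        _ = _ := by rw [hrr, e6]
    · intro w hw h5 t
      have e7 := hc' w hw (fun x hx => h5 x (List.mem_cons_of_mem _ hx)) t
      have e8 := hfix w hw (h5 (r, c) (by simp)) t
      calc hG.hU hr.1 hs0 * g' * hG.xN w t * (hG.hU hr.1 hs0 * g')⁻¹
          = hG.hU hr.1 hs0 * (g' * hG.xN w t * g'⁻¹) * (hG.hU hr.1 hs0)⁻¹ := by group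
        _ = _ := by rw [e7, e8]

end Tbl.Good2

end

end Cfsg.Agent.Lib.Chev
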