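/-
Involutions in Chevalley groups in characteristic two: the rank of `x - 1` on the Lie algebra from kernel computations.
-/
import Cfsg.Agent.Lib.ChInv.Tree

set_option autoImplicit false

namespace Cfsg.Agent.Lib.Chev

open Cfsg.Lie

/-- The word of a list of roots. -/
def wL (L : List ℕ) : List (ℕ × Poly) := L.map fun r => (r, [⟨1, 0, 0⟩])

/-- The columns of `x_L - 1`. -/
noncomputable def vS (T : Tbl) (L : List ℕ) (k : ℕ) : SV := T.wordColsN (wL L) k ++ [⟨k, -1, 0, 0⟩]

/-- The sum of columns of `x_L - 1`. -/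
noncomputable def vC (T : Tbl) (L c : List ℕ) : SV := c.flatMap (vS T L)

/-- The sparse vector of a list of keys. -/
def bitsV (b : List ℕ) : SV := b.map fun k => ⟨k, 1, 0, 0⟩

/-- The certificate for an upper bound of the rank: all columns are sums of the columns in `C`. -/
noncomputable def chkUp (T : Tbl) (L C : List ℕ) (cf : List (List ℕ)) : Bool :=
  allBelow (T.n + T.l) fun k => ((cf.getD k []).all fun c => C.contains c) && eqSVp 2 (vS T L k) (vC T L (cf.getD k []))

/-- The certificate for a lower bound of the rank: sums of columns in echelon form. -/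
noncomputable def chkLo (T : Tbl) (L : List ℕ) (cert : List (ℕ × List ℕ × List ℕ)) : Bool :=
  (cert.all fun e => decide (e.1 < T.n + T.l) && decide (e.2.2.count e.1 = 1) && eqSVp 2 (vC T L e.2.1) (bitsV e.2.2)) &&
    decide (cert.Pairwise fun a b => b.2.2.count a.1 = 0)

section

variable {F : Type*} [Field F] {D : ChevalleyDatum} {T : Tbl}

/-- The matrix `x_L - 1`. -/
noncomputable def mL (D : ChevalleyDatum) (F : Type*) [Field F] (L : List ℕ) : Matrix D.Idx D.Idx F :=
  D.wordMat F (L.map fun r => (r, (1 : F))) - 1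

lemma toVec_bitsV (b : List ℕ) (x : D.Idx) : toVec D (bitsV b) (1 : F) 1 x = (b.count (code D x) : F) := by
  induction b with
  | nil => simp [bitsV]
  | cons a b ih =>
    have e : bitsV (a :: b) = ⟨a, 1, 0, 0⟩ :: bitsV b := rfl
    rw [e, toVec_cons, Pi.add_apply, ih, List.count_cons]
    simp only [Pi.smul_apply, bvec, Term.val, smul_eq_mul]
    by_cases h : code D x = a
    · subst h
      simp
      ring
    · have h' : ¬ a = code D x := fun e => h e.symm
      simp [h, h']

lemma rank_conj_sub_one (h a : GL D.Idx F) :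
    (((h * a * h⁻¹ : GL D.Idx F) : Matrix D.Idx D.Idx F) - 1).rank = ((a : Matrix D.Idx D.Idx F) - 1).rank := by
  have e : ((h * a * h⁻¹ : GL D.Idx F) : Matrix D.Idx D.Idx F) - 1 =
      (h : Matrix D.Idx D.Idx F) * ((a : Matrix D.Idx D.Idx F) - 1) * ((h⁻¹ : GL D.Idx F) : Matrix D.Idx D.Idx F) := by
    simp only [Units.val_mul, mul_sub, sub_mul, mul_one]
    congr 1
    rw [← Units.val_mul, mul_inv_cancel]
    rfl
  rw [e, Matrix.rank_mul_eq_left_of_isUnit_det _ _ ((Matrix.isUnit_iff_isUnit_det _).1 (Units.isUnit _)),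
    Matrix.rank_mul_eq_right_of_isUnit_det _ _ ((Matrix.isUnit_iff_isUnit_det _).1 (Units.isUnit _))]

namespace Tbl.Good2

variable (hG : T.Good2 D)
include hG

lemma mL_col (L : List ℕ) (hL : ∀ r ∈ L, r < D.nroots) (k : ℕ) :
    (mL D F L).mulVec (bvec D F k) = toVec D (vS T L k) (1 : F) 1 := by
  have h := hG.rep_wordN (F := F) (wL L) (fun e he => by
    obtain ⟨r, hr, rfl⟩ := List.mem_map.1 he
    exact hL r hr) 1 1 k
  have e : ((wL L).map fun e => (e.1, Poly.val e.2 (1 : F) 1)) = L.map fun r => (r, (1 : F)) := by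
    simp [wL, Poly.val, Mono.val]
  rw [e] at h
  unfold mL vS
  rw [Matrix.sub_mulVec, h, Matrix.one_mulVec, toVec_append, toVec_cons]
  simp [Term.val, sub_eq_add_neg]

lemma vC_toVec (L : List ℕ) (hL : ∀ r ∈ L, r < D.nroots) (c : List ℕ) :
    toVec D (vC T L c) (1 : F) 1 = (c.map fun k => (mL D F L).mulVec (bvec D F k)).sum := by
  induction c with
  | nil => simp [vC]
  | cons a c ih =>
    have e : vC T L (a :: c) = vS T L a ++ vC T L c := by simp [vC]
    rw [e, toVec_append, ih, List.map_cons, List.sum_cons, hG.mL_col L hL]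

/-- The upper bound of the rank. -/
theorem rank_le [CharP F 2] {L C : List ℕ} {cf : List (List ℕ)} (hL : ∀ r ∈ L, r < D.nroots) (h : chkUp T L C cf = true) :
    (mL D F L).rank ≤ C.length := by
  classical
  have hC := hG.correct
  let f : ℕ → (D.Idx → F) := fun k => (mL D F L).mulVec (bvec D F k)
  let s : Finset (D.Idx → F) := (C.map f).toFinset
  have h1 : ∀ col, (mL D F L).col col ∈ Submodule.span F (s : Set (D.Idx → F)) := by
    intro col
    have hk := code_lt D col
    have h2 := allBelow_spec h (code D col) (by rw [hC.n_eq, hC.l_eq]; exact hk)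
    rw [Bool.and_eq_true, List.all_eq_true] at h2
    have h3 := eqSVp_spec D (F := F) h2.2 1 1
    rw [hG.vC_toVec L hL, ← hG.mL_col L hL] at h3
    have h4 : (mL D F L).col col = f (code D col) := by
      show _ = (mL D F L).mulVec (bvec D F (code D col))
      rw [mulVec_bvec_code]
      rfl
    rw [h4]
    show (mL D F L).mulVec (bvec D F (code D col)) ∈ _
    rw [h3]
    apply list_sum_mem
    intro x hx
    obtain ⟨c, hc, rfl⟩ := List.mem_map.1 hx
    apply Submodule.subset_span
    simp only [s, List.coe_toFinset, Set.mem_setOf_eq, List.mem_map]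
    exact ⟨c, List.contains_iff_mem.1 (h2.1 c hc), rfl⟩
  have h5 : LinearMap.range (mL D F L).mulVecLin ≤ Submodule.span F (s : Set (D.Idx → F)) := by
    rw [Matrix.range_mulVecLin, Submodule.span_le]
    rintro _ ⟨col, rfl⟩
    exact h1 col
  calc (mL D F L).rank = Module.finrank F (LinearMap.range (mL D F L).mulVecLin) := rfl
    _ ≤ Module.finrank F (Submodule.span F (s : Set (D.Idx → F))) := Submodule.finrank_mono h5
    _ ≤ s.card := finrank_span_finset_le_card s
    _ ≤ (C.map f).length := List.toFinset_card_le _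
    _ = C.length := List.length_map _

/-- The lower bound of the rank. -/
theorem rank_ge [CharP F 2] {L : List ℕ} {cert : List (ℕ × List ℕ × List ℕ)} (hL : ∀ r ∈ L, r < D.nroots)
    (h : chkLo T L cert = true) : cert.length ≤ (mL D F L).rank := by
  classical
  have hC := hG.correct
  unfold chkLo at h
  rw [Bool.and_eq_true, List.all_eq_true, decide_eq_true_eq] at h
  obtain ⟨h1, h2⟩ := h
  have h1' : ∀ i : Fin cert.length, (cert[i.val]).1 < D.nroots + D.rank ∧ (cert[i.val]).2.2.count (cert[i.val]).1 = 1 ∧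
      eqSVp 2 (vC T L (cert[i.val]).2.1) (bitsV (cert[i.val]).2.2) = true := by
    intro i
    have h3 := h1 _ (List.getElem_mem i.2)
    rw [Bool.and_eq_true, Bool.and_eq_true, decide_eq_true_eq, decide_eq_true_eq, hC.n_eq, hC.l_eq] at h3
    exact ⟨h3.1.1, h3.1.2, h3.2⟩
  have hcode : ∀ k, k < D.nroots + D.rank → ∃ x : D.Idx, code D x = k := by
    intro k hk
    by_cases h3 : k < D.nroots
    · exact ⟨Sum.inr ⟨k, h3⟩, rfl⟩
    · refine ⟨Sum.inl ⟨k - D.nroots, by omega⟩, ?_⟩
      simp only [code]
      omega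
  choose row hrow using fun i : Fin cert.length => hcode _ (h1' i).1
  let q : Fin cert.length → (D.Idx → F) := fun j => ((cert[j.val]).2.1.map fun k => bvec D F k).sum
  let Q : Matrix D.Idx (Fin cert.length) F := Matrix.of fun x j => q j x
  let P : Matrix (Fin cert.length) D.Idx F := Matrix.of fun i x => if x = row i then 1 else 0
  have hQ : ∀ j, (mL D F L).mulVec (q j) = toVec D (bitsV (cert[j.val]).2.2) (1 : F) 1 := by
    intro j
    rw [← eqSVp_spec D (h1' j).2.2 1 1, hG.vC_toVec L hL]
    show (mL D F L).mulVec ((cert[j.val]).2.1.map fun k => bvec D F k).sum = _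
    generalize (cert[j.val]).2.1 = c
    induction c with
    | nil => simp
    | cons a c ih => simp [Matrix.mulVec_add, ih]
  have hS : ∀ i j, (P * ((mL D F L) * Q)) i j = ((cert[j.val]).2.2.count (cert[i.val]).1 : F) := by
    intro i j
    rw [Matrix.mul_apply, Finset.sum_eq_single (row i)]
    · have e1 : P i (row i) = 1 := by simp [P]
      have e2 : ((mL D F L) * Q) (row i) j = (mL D F L).mulVec (q j) (row i) := rfl
      rw [e1, one_mul, e2, hQ, toVec_bitsV, hrow]
    · intro x _ hx
      have e1 : P i x = 0 := by simp [P, hx]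
      rw [e1, zero_mul]
    · simp
  have htri : (P * ((mL D F L) * Q)).BlockTriangular OrderDual.toDual := by
    intro i j hij
    have hij' : i < j := hij
    rw [hS, (List.pairwise_iff_getElem.1 h2) i.val j.val i.2 j.2 hij']
    simp
  have hdet : (P * ((mL D F L) * Q)).det = 1 := by
    rw [Matrix.det_of_lowerTriangular _ htri]
    apply Finset.prod_eq_one
    intro i _
    rw [hS, (h1' i).2.1]
    simp
  have hunit : IsUnit (P * ((mL D F L) * Q)) := (Matrix.isUnit_iff_isUnit_det _).2 (by rw [hdet]; exact isUnit_one)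
  have h3 := Matrix.rank_of_isUnit _ hunit
  rw [Fintype.card_fin] at h3
  calc cert.length = (P * ((mL D F L) * Q)).rank := h3.symm
    _ ≤ ((mL D F L) * Q).rank := Matrix.rank_mul_le_right _ _
    _ ≤ (mL D F L).rank := Matrix.rank_mul_le_left _ _

lemma xL_coe (L : List ℕ) : ((hG.xL L : GL D.Idx F) : Matrix D.Idx D.Idx F) = D.wordMat F (L.map fun r => (r, (1 : F))) :=
  hG.gW_coe _

end Tbl.Good2

end

end Cfsg.Agent.Lib.Chev
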