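/-
Involutions in simply laced Chevalley groups in characteristic two: the kernel checks of the facts on the root system.
-/
import Cfsg.Agent.Lib.ChInv.Rank

set_option autoImplicit false

namespace Cfsg.Agent.Lib.Chev

open Cfsg.Lie

/-- An additive function on the roots, from the Cartan integers. -/
noncomputable def Lt (T : Tbl) (μ : ℕ → ℤ) (w : ℕ) : ℤ := sumF T.l fun i => μ i * T.cart i w

/-- The shape of the commutator terms in a simply laced system. -/
def hd1 (l : List (ℕ × ℤ)) : List (ℕ × ℤ × ℕ × ℕ) :=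
  match l with
  | [] => []
  | e :: _ => [(e.1, e.2, 1, 1)]

/-- A root `d` with `r + d = k`. -/
noncomputable def chkD (T : Tbl) (r k : ℕ) : Bool :=
  match T.entry (T.neg r) k with
  | [] => false
  | e :: _ =>
    and (Nat.ble (T.n / 2) e.1) <| and (Nat.blt e.1 T.n) <| and (intEq (T.pairT r e.1) (-1)) <|
      match T.entry r e.1 with
      | [] => false
      | e' :: _ => and (Nat.beq e'.1 k) (dvdZ 2 (e'.2 + 1))

/-- The root `r + z`. -/
noncomputable def chkS (T : Tbl) (r z : ℕ) : Bool :=
  match T.entry r z, T.entry z r with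
  | [e], [e'] =>
    and (Nat.beq e.1 e'.1) <| and (Nat.ble (T.n / 2) e.1) <| and (Nat.blt e.1 T.n) <|
      and (dvdZ 2 (e.2 + 1)) <| and (dvdZ 2 (e'.2 + 1)) <|
        (List.range T.l).any fun i => dvdZ 2 (T.cart i r + T.cart i z + 1)
  | _, _ => false

/-- The check for a pair of positive roots. -/
noncomputable def chkPP (T : Tbl) (r w : ℕ) : Bool :=
  cond (Nat.beq r w) (intEq (T.pairT r w) 2) <|
    and (intEq (T.pairT r w) (T.pairT w r)) <|
      and (decide (T.commF r w = hd1 (T.entry r w))) <|
        cond (intZero (T.pairT r w)) (isNilF (T.commF r w)) <|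
          cond (intEq (T.pairT r w) 1) (cond (Nat.blt r w) (chkD T r w) true) <|
            and (intEq (T.pairT r w) (-1)) (cond (Nat.blt r w) (chkS T r w) true)

/-- The check of the facts used in the elimination. -/
noncomputable def chkSL (T : Tbl) (μ : ℕ → ℤ) : Bool :=
  and (allBelow (T.n - 1) fun a => decide (Lt T μ a < Lt T μ (a + 1))) <|
    and (decide (0 < Lt T μ (T.n / 2))) <|
      allBelow T.n fun r => cond (Nat.ble (T.n / 2) r) (allBelow T.n fun w => cond (Nat.ble (T.n / 2) w) (chkPP T r w) true) true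

/-- The check of the facts on the Weyl group action. -/
noncomputable def chkTF (T : Tbl) : Bool :=
  and (allBelow T.l fun i => allBelow T.n fun z =>
    and (cond (intNeg (T.cart i z)) (Nat.blt z (T.refl i z)) true)
      (cond (intZero (T.cart i z)) (Nat.beq (T.refl i z) z) true)) <|
    allBelow T.n fun a => allBelow T.n fun b =>
      cond (intZero (T.pairT a b)) (and (not (Nat.beq a b)) (and (not (Nat.beq b (T.neg a))) (isNilF (T.commF a b)))) true

/-- The check at a node of the tree. -/
noncomputable def nodeOK (T : Tbl) (certs : List (List ℕ × List ℕ × List ℕ)) (Reps : List (List ℕ)) (F₀ : List ℕ)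
    (A : List ℕ) : Bool :=
  A.isEmpty || certs.any fun c => decide (c.1 = A) && (c.2.1.all fun i => decide (i < T.l)) &&
    ((Reps.any fun rep => (A.map (wperm T c.2.1)).isPerm rep) || (A.map (wperm T c.2.1)).isPerm (F₀ ++ c.2.2))

section

variable {F : Type*} [Field F] {D : ChevalleyDatum} {T : Tbl}

lemma isNilF_eq {α : Type*} {l : List α} (h : isNilF l = true) : l = [] := by
  cases l with
  | nil => rfl
  | cons a l => exact absurd h (by simp [isNilF])

lemma odd_of_dvdZ {m : ℤ} (h : dvdZ 2 (m + 1) = true) : Odd m := by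
  have h1 := dvdZ_spec h
  obtain ⟨k, hk⟩ := h1
  exact ⟨k - 1, by push_cast at hk; omega⟩

namespace Tbl.Good2

variable (hG : T.Good2 D)
include hG

/-- The functional. -/
lemma addF_sum (μ : ℕ → ℤ) : AddF D (fun w => ∑ i ∈ Finset.range D.rank, μ i * D.cartan i w) := by
  constructor
  · intro s hs
    rw [← Finset.sum_neg_distrib]
    apply Finset.sum_congr rfl
    intro i hi
    rw [(hG.addF_cart (Finset.mem_range.1 hi)).neg s hs]
    ring
  · intro s v hs hv q hq
    rw [Finset.mul_sum, ← Finset.sum_add_distrib]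
    apply Finset.sum_congr rfl
    intro i hi
    rw [(hG.addF_cart (Finset.mem_range.1 hi)).chain s v hs hv q hq]
    ring

lemma Lt_eq (μ : ℕ → ℤ) {w : ℕ} (hw : w < D.nroots) :
    Lt T μ w = ∑ i ∈ Finset.range D.rank, μ i * D.cartan i w := by
  have hC := hG.correct
  unfold Lt
  rw [sumF_eq, hC.l_eq]
  apply Finset.sum_congr rfl
  intro i hi
  rw [hC.cart_eq i w (Finset.mem_range.1 hi) hw]

/-- The facts from the check. -/
theorem slFacts (μ : ℕ → ℤ) (hn0 : D.nroots / 2 < D.nroots) (h : chkSL T μ = true) :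
    SLFacts D (fun w => ∑ i ∈ Finset.range D.rank, μ i * D.cartan i w) := by
  have hC := hG.correct
  have hS := hG.sane
  have h5 := hG.even_n
  unfold chkSL at h
  rw [Bool.and_eq_true, Bool.and_eq_true] at h
  obtain ⟨h1, h2, h3⟩ := h
  have hP : ∀ r w, PR D r → PR D w → chkPP T r w = true := by
    intro r w hr hw
    have h6 := allBelow_spec h3 r (hG.lt_n hr.1)
    have hb : Nat.ble (T.n / 2) r = true := by
      rw [hC.n_eq]
      exact Nat.ble_eq_true_of_le hr.2
    rw [hb] at h6
    have h7 := allBelow_spec h6 w (hG.lt_n hw.1)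
    have hb' : Nat.ble (T.n / 2) w = true := by
      rw [hC.n_eq]
      exact Nat.ble_eq_true_of_le hw.2
    rw [hb'] at h7
    exact h7
  have hcomm : ∀ r w, r < D.nroots → w < D.nroots → D.commTerms r w = T.commF r w := by
    intro r w hr hw
    rw [commF_eq, commT_eq hC hS hr hw]
  have hmono1 : ∀ a, a + 1 < D.nroots → Lt T μ a < Lt T μ (a + 1) := by
    intro a ha
    have h6 := allBelow_spec h1 a (by rw [hC.n_eq]; omega)
    exact of_decide_eq_true h6
  have hself : ∀ r, PR D r → D.pairing r r = 2 := by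
    intro r hr
    have h6 := hP r r hr hr
    unfold chkPP at h6
    rw [show Nat.beq r r = true from Nat.beq_refl r] at h6
    rw [← hG.pairT_eq hr.1 hr.1]
    exact intEq_spec h6
  have hkey : ∀ r w, PR D r → PR D w → r ≠ w →
      T.pairT r w = T.pairT w r ∧ T.commF r w = hd1 (T.entry r w) ∧
      ((T.pairT r w = 0 ∧ T.commF r w = []) ∨
        (T.pairT r w = 1 ∧ (r < w → chkD T r w = true)) ∨ (T.pairT r w = -1 ∧ (r < w → chkS T r w = true))) := by
    intro r w hr hw hne
    have h6 := hP r w hr hw
    unfold chkPP at h6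
    rw [show Nat.beq r w = false from beq_false hne, cond_false, Bool.and_eq_true, Bool.and_eq_true] at h6
    obtain ⟨h7, h8, h9⟩ := h6
    refine ⟨intEq_spec h7, of_decide_eq_true h8, ?_⟩
    cases h10 : intZero (T.pairT r w) with
    | true =>
      rw [h10, cond_true] at h9
      exact Or.inl ⟨intZero_spec h10, isNilF_eq h9⟩
    | false =>
      rw [h10, cond_false] at h9
      cases h11 : intEq (T.pairT r w) 1 with
      | true =>
        rw [h11, cond_true] at h9
        refine Or.inr (Or.inl ⟨intEq_spec h11, fun hlt => ?_⟩)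
        rwa [show Nat.blt r w = true from Nat.ble_eq_true_of_le hlt, cond_true] at h9
      | false =>
        rw [h11, cond_false, Bool.and_eq_true] at h9
        refine Or.inr (Or.inr ⟨intEq_spec h9.1, fun hlt => ?_⟩)
        have h12 := h9.2
        rwa [show Nat.blt r w = true from Nat.ble_eq_true_of_le hlt, cond_true] at h12
  refine ⟨hG.addF_sum μ, ?_, ?_, hself, ?_, ?_, ?_, ?_, ?_, ?_⟩
  · intro a b hab hb
    simp only [← hG.Lt_eq μ (by omega : a < D.nroots), ← hG.Lt_eq μ hb]
    induction b, hab using Nat.le_induction with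
    | base => exact hmono1 a hb
    | succ b hab ih => exact (ih (by omega)).trans (hmono1 b hb)
  · have h7 := of_decide_eq_true h2
    rw [hC.n_eq] at h7
    rw [← hG.Lt_eq μ hn0]
    exact h7
  · intro a b ha hb
    by_cases hne : a = b
    · rw [hne]
    · rw [← hG.pairT_eq ha.1 hb.1, ← hG.pairT_eq hb.1 ha.1]
      exact (hkey a b ha hb hne).1
  · intro r w hr hw hne
    rw [← hG.pairT_eq hr.1 hw.1]
    rcases (hkey r w hr hw (Ne.symm hne)).2.2 with h6 | h6 | h6
    · exact Or.inr (Or.inl h6.1)
    · exact Or.inr (Or.inr h6.1)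
    · exact Or.inl h6.1
  · intro r w hr hw h0
    have hne : r ≠ w := by
      rintro rfl
      rw [hself r hr] at h0
      omega
    rw [← hG.pairT_eq hr.1 hw.1] at h0
    rw [hcomm r w hr.1 hw.1]
    rcases (hkey r w hr hw hne).2.2 with h6 | h6 | h6
    · exact h6.2
    · omega
    · omega
  · intro r k hr hk hlt h0
    have hne : r ≠ k := by omega
    rw [← hG.pairT_eq hr.1 hk.1] at h0
    have hD : chkD T r k = true := by
      rcases (hkey r k hr hk hne).2.2 with h6 | h6 | h6
      · omega
      · exact h6.2 hlt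
      · omega
    unfold chkD at hD
    split at hD
    · exact absurd hD (by simp)
    · rename_i e _ _
      rw [Bool.and_eq_true, Bool.and_eq_true, Bool.and_eq_true] at hD
      obtain ⟨h6, h7, h8, h9⟩ := hD
      have hd : PR D e.1 := by
        have h10 := Nat.le_of_ble_eq_true h6
        have h11 : e.1 < T.n := Nat.le_of_ble_eq_true h7
        rw [hC.n_eq] at h10 h11
        exact ⟨h11, h10⟩
      have hpd : D.pairing r e.1 = -1 := by
        rw [← hG.pairT_eq hr.1 hd.1]
        exact intEq_spec h8
      have hne2 : r ≠ e.1 := by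
        intro h10
        rw [← h10, hself r hr] at hpd
        omega
      have hsh := (hkey r e.1 hr hd hne2).2.1
      split at h9
      · exact absurd h9 (by simp)
      · rename_i e' _ he'
        rw [Bool.and_eq_true] at h9
        have e2 : e'.1 = k := Nat.eq_of_beq_eq_true h9.1
        refine ⟨e.1, e'.2, hd, ?_, odd_of_dvdZ h9.2, hpd⟩
        rw [hcomm r e.1 hr.1 hd.1, hsh, he', ← e2]
        rfl
  · intro a b ha hb hne c hc π hπ
    rw [hcomm a b ha.1 hb.1, (hkey a b ha hb hne).2.1] at hc
    cases he : T.entry a b with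
    | nil =>
      rw [he] at hc
      exact absurd hc (by simp [hd1])
    | cons e l =>
      rw [he] at hc
      have hc' : c = (e.1, e.2, 1, 1) := by simpa [hd1] using hc
      subst hc'
      have h6 := hπ.chain a b ha.1 hb.1 (e, 0) (by rw [← hC.entry_eq a b ha.1 hb.1, he]; simp)
      simp only at h6 ⊢
      rw [h6]
      push_cast
      ring
  · intro r z hr hz hlt h0
    have hne : r ≠ z := by omega
    rw [← hG.pairT_eq hr.1 hz.1] at h0
    have hD : chkS T r z = true := by
      rcases (hkey r z hr hz hne).2.2 with h6 | h6 | h6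
      · omega
      · omega
      · exact h6.2 hlt
    unfold chkS at hD
    split at hD
    · rename_i e e' he he'
      simp only [Bool.and_eq_true] at hD
      obtain ⟨h6, h7, h8, h9, h10, h11⟩ := hD
      have hs : PR D e.1 := by
        have h12 := Nat.le_of_ble_eq_true h7
        have h13 : e.1 < T.n := Nat.le_of_ble_eq_true h8
        rw [hC.n_eq] at h12 h13
        exact ⟨h13, h12⟩
      rw [List.any_eq_true] at h11
      obtain ⟨i, hi, h12⟩ := h11
      have hi' : i < D.rank := by
        rw [← hC.l_eq]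
        exact List.mem_range.1 hi
      refine ⟨e.1, e.2, e'.2, i, hs, ?_, ?_, odd_of_dvdZ h9, odd_of_dvdZ h10, hi', ?_⟩
      · rw [← hC.entry_eq r z hr.1 hz.1, he]
      · rw [← hC.entry_eq z r hz.1 hr.1, he', Nat.eq_of_beq_eq_true h6]
      · have h13 := odd_of_dvdZ h12
        rwa [hC.cart_eq i r hi' hr.1, hC.cart_eq i z hi' hz.1] at h13
    · exact absurd hD (by simp)

/-- The facts on the Weyl group from the check. -/
theorem treeFacts (h : chkTF T = true) : TreeFacts T D := by
  have hC := hG.correct
  unfold chkTF at h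
  rw [Bool.and_eq_true] at h
  obtain ⟨h1, h2⟩ := h
  have h3 : ∀ i z, i < D.rank → z < D.nroots → _ := fun i z hi hz =>
    allBelow_spec (allBelow_spec h1 i (hG.lt_l hi)) z (hG.lt_n hz)
  constructor
  · intro i z hi hz hneg
    have h4 := h3 i z hi hz
    rw [Bool.and_eq_true, (intNeg_eq_true_iff _).2 hneg, cond_true] at h4
    exact Nat.le_of_ble_eq_true h4.1
  · intro i z hi hz h0
    have h4 := h3 i z hi hz
    rw [Bool.and_eq_true, (intZero_eq_true_iff _).2 h0, cond_true] at h4
    exact Nat.eq_of_beq_eq_true h4.2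
  · intro a b ha hb h0
    have h4 := allBelow_spec (allBelow_spec h2 a (hG.lt_n ha)) b (hG.lt_n hb)
    rw [← hG.pairT_eq ha hb] at h0
    rw [(intZero_eq_true_iff _).2 h0, cond_true, Bool.and_eq_true, Bool.and_eq_true] at h4
    obtain ⟨h5, h6, h7⟩ := h4
    refine ⟨?_, ?_, ?_⟩
    · intro e
      rw [e, show Nat.beq b b = true from Nat.beq_refl b] at h5
      exact absurd h5 (by simp)
    · intro e
      rw [hC.neg_eq a ha, ← e, show Nat.beq b b = true from Nat.beq_refl b] at h6
      exact absurd h6 (by simp)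
    · rw [commT_eq hC hG.sane ha hb, ← commF_eq]
      exact isNilF_eq h7

omit hG in
lemma nodeOK_spec {certs : List (List ℕ × List ℕ × List ℕ)} {Reps : List (List ℕ)} {F₀ A : List ℕ}
    (h : nodeOK T certs Reps F₀ A = true) (hl : T.l = D.rank) :
    A = [] ∨ ∃ w : List ℕ, (∀ i ∈ w, i < D.rank) ∧
      ((∃ rep ∈ Reps, (A.map (wperm T w)).Perm rep) ∨ ∃ B, (A.map (wperm T w)).Perm (F₀ ++ B)) := by
  unfold nodeOK at h
  rw [Bool.or_eq_true, List.isEmpty_iff, List.any_eq_true] at h
  rcases h with h | ⟨c, _, h⟩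
  · exact Or.inl h
  · right
    rw [Bool.and_eq_true, Bool.and_eq_true, decide_eq_true_eq, List.all_eq_true, Bool.or_eq_true, List.any_eq_true] at h
    obtain ⟨⟨_, h1⟩, h2⟩ := h
    refine ⟨c.2.1, fun i hi => hl ▸ of_decide_eq_true (h1 i hi), ?_⟩
    rcases h2 with ⟨rep, hrep, h3⟩ | h3
    · exact Or.inl ⟨rep, hrep, List.isPerm_iff.1 h3⟩
    · exact Or.inr ⟨c.2.2, List.isPerm_iff.1 h3⟩

end Tbl.Good2

end

end Cfsg.Agent.Lib.Chev
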