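/-
Involutions in simply laced Chevalley groups in characteristic two: the classes of involutions from the certificates.
-/
import Cfsg.Agent.Lib.ChInv.Chk

set_option autoImplicit false

namespace Cfsg.Agent.Lib.Chev

open Cfsg.Lie

/-- The check that the letters of the fusing word commute with the roots orthogonal to the frame. -/
noncomputable def chkCC (T : Tbl) (F₀ G₀ : List ℕ) : Bool :=
  allBelow T.n fun b => cond (F₀.all fun f => and (intZero (T.pairT f b)) (intZero (T.pairT b f)))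
    (G₀.all fun y => and (Nat.blt y T.n) (intZero (T.pairT y b))) true

instance or2Dec (D : ChevalleyDatum) : DecidableRel (Or2 D) := fun _ _ => inferInstanceAs (Decidable (_ ∧ _))

section

variable {F : Type*} [Field F] {D : ChevalleyDatum} {T : Tbl}

/-- An involution is conjugate into `U`. -/
lemma exists_conj_U [Finite F] [CharP F 2] (hG : T.Good3 D) {v : GL D.Idx F} (hv : v ∈ D.group F) (h2 : v * v = 1) :
    ∃ g ∈ D.group F, g * v * g⁻¹ ∈ D.posUnipotent F := by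
  haveI : Fact (Nat.Prime 2) := ⟨Nat.prime_two⟩
  obtain ⟨P, hP⟩ := exists_sylow_gU (p := 2) (F := F) hG
  let x : ↥(D.group F) := ⟨v, hv⟩
  have hx : x ^ 2 = 1 := by
    apply Subtype.ext
    simp [x, pow_two, h2]
  have hH : IsPGroup 2 (Subgroup.zpowers x) := by
    rw [IsPGroup.iff_card]
    rw [Nat.card_zpowers]
    rcases (Nat.dvd_prime Nat.prime_two).1 (orderOf_dvd_of_pow_eq_one hx) with h | h
    · exact ⟨0, by simpa using h⟩
    · exact ⟨1, by simpa using h⟩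
  obtain ⟨Q, hQ⟩ := hH.exists_le_sylow
  obtain ⟨g, hg⟩ := MulAction.exists_smul_eq ↥(D.group F) Q P
  have hxQ : x ∈ (Q : Subgroup ↥(D.group F)) := hQ (Subgroup.mem_zpowers x)
  have h3 : g * x * g⁻¹ ∈ (P : Subgroup ↥(D.group F)) := by
    rw [← hg, Sylow.coe_subgroup_smul]
    exact Subgroup.smul_mem_pointwise_smul _ (MulAut.conj g) _ hxQ
  rw [hP] at h3
  exact ⟨g.1, g.2, Subgroup.mem_subgroupOf.1 h3⟩

namespace Tbl.Good2

variable (hG : T.Good2 D) {L' : ℕ → ℤ}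
include hG

lemma cp_top : CP D (PR D) where
  pos _ h := h
  add a b ha hb hne c hc := by
    have ho := hG.commTerms_order ha.1 hb.1 ha.2 hb.2 (Ne.symm hne) hc
    have hcl := hG.commTerms_lt ha.1 hb.1 c hc
    have := ha.2
    exact ⟨hcl, by omega⟩
  sub _ _ _ _ _ _ hd _ _ := hd

lemma U_le_rootsGen : D.posUnipotent F ≤ rootsGen D F (PR D) := by
  refine (Subgroup.closure_le _).2 ?_
  rintro g ⟨r, t, hr, hg⟩
  exact Subgroup.subset_closure ⟨r, t, ⟨hr.1, (hG.isPos_iff hr.1).1 hr⟩, hg⟩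

lemma rootsGen_le_group {S : ℕ → Prop} (hS : ∀ w, S w → w < D.nroots) : rootsGen D F S ≤ D.group F := by
  refine (Subgroup.closure_le _).2 ?_
  rintro g ⟨r, t, hr, hg⟩
  exact x_mem_group (hS r hr) hg

lemma gW_wL (L : List ℕ) :
    hG.gW ((wL L).map fun e => (e.1, Poly.val e.2 (1 : F) 1)) = (hG.xL L : GL D.Idx F) := by
  have e : ((wL L).map fun e => (e.1, Poly.val e.2 (1 : F) 1)) = L.map fun r => (r, (1 : F)) := by
    simp [wL, Poly.val, Mono.val]
  rw [e]
  rfl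

/-- The fusion word from the kernel check. -/
lemma fusion_of_chk [CharP F 2] (hF : TreeFacts T D) {F₀ F₀' G₀ : List ℕ} (hF₀ : ∀ f ∈ F₀, f < D.nroots)
    (hw : T.chkWEq 2 (wL G₀ ++ wL F₀) (wL F₀' ++ wL G₀) = true) (hcc : chkCC T F₀ G₀ = true) :
    (hG.xL G₀ : GL D.Idx F) * hG.xL F₀ * (hG.xL G₀)⁻¹ = hG.xL F₀' ∧
      ∀ b, b < D.nroots → (∀ f ∈ F₀, Or2 D f b) → ∀ t : F, (hG.xL G₀ : GL D.Idx F) * hG.xN b t * (hG.xL G₀)⁻¹ = hG.xN b t := by
  have hC := hG.correct
  constructor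
  · have e := hG.wEq (F := F) hw 1 1
    rw [List.map_append, List.map_append, hG.gW_append, hG.gW_append, hG.gW_wL, hG.gW_wL, hG.gW_wL] at e
    rw [mul_inv_eq_iff_eq_mul]
    exact e
  · intro b hb hor t
    have h1 := allBelow_spec hcc b (hG.lt_n hb)
    have h2 : (F₀.all fun f => and (intZero (T.pairT f b)) (intZero (T.pairT b f))) = true := by
      rw [List.all_eq_true]
      intro f hf
      have hfl : f < D.nroots := hF₀ f hf
      rw [Bool.and_eq_true, intZero_eq_true_iff, intZero_eq_true_iff, hG.pairT_eq hfl hb, hG.pairT_eq hb hfl]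
      exact hor f hf
    rw [h2, cond_true, List.all_eq_true] at h1
    have key : ∀ G : List ℕ, (∀ y ∈ G, y ∈ G₀) → (hG.xL G : GL D.Idx F) * hG.xN b t * (hG.xL G)⁻¹ = hG.xN b t := by
      intro G
      induction G with
      | nil => intro _; simp [xL_nil]
      | cons y G ih =>
        intro hy
        have h3 := h1 y (hy y (by simp))
        rw [Bool.and_eq_true, intZero_eq_true_iff] at h3
        have hyl : y < D.nroots := by
          have h4 : y < T.n := Nat.le_of_ble_eq_true h3.1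
          rwa [hC.n_eq] at h4
        rw [hG.pairT_eq hyl hb] at h3
        have h5 := hG.xN_comm_orth (F := F) hF hyl hb h3.2 1 t
        rw [hG.xL_cons]
        calc hG.xN y (1 : F) * hG.xL G * hG.xN b t * (hG.xN y (1 : F) * hG.xL G)⁻¹
            = hG.xN y (1 : F) * (hG.xL G * hG.xN b t * (hG.xL G)⁻¹) * (hG.xN y (1 : F))⁻¹ := by group
          _ = hG.xN y (1 : F) * hG.xN b t * (hG.xN y (1 : F))⁻¹ := by
            rw [ih fun z hz => hy z (List.mem_cons_of_mem _ hz)]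
          _ = _ := by
            rw [h5]
            group
    exact key G₀ fun y hy => hy

/-- The square of a product of orthogonal root elements. -/
lemma xL_sq [CharP F 2] (hF : TreeFacts T D) {R : List ℕ} (hl : ∀ r ∈ R, r < D.nroots) (hp : R.Pairwise (Or2 D)) :
    (hG.xL R : GL D.Idx F) * hG.xL R = 1 := by
  induction R with
  | nil => simp [xL_nil]
  | cons r R ih =>
    rw [List.pairwise_cons] at hp
    have hr := hl r (by simp)
    have h1 : hG.xN r (1 : F) * hG.xN r 1 = 1 := by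
      rw [hG.xN_add hr, add_self_char_two, hG.xN_zero]
    have hcomm : ∀ S : List ℕ, (∀ s ∈ S, s < D.nroots ∧ Or2 D r s) →
        hG.xN r (1 : F) * hG.xL S = hG.xL S * hG.xN r 1 := by
      intro S
      induction S with
      | nil => intro _; simp [xL_nil]
      | cons s S ih2 =>
        intro hS
        rw [hG.xL_cons, ← mul_assoc, hG.xN_comm_orth hF hr (hS s (by simp)).1 (hS s (by simp)).2.1, mul_assoc,
          ih2 fun a ha => hS a (List.mem_cons_of_mem _ ha), mul_assoc]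
    rw [hG.xL_cons]
    have h2 := hcomm R fun s hs => ⟨hl s (List.mem_cons_of_mem _ hs), hp.1 s hs⟩
    calc hG.xN r (1 : F) * hG.xL R * (hG.xN r (1 : F) * hG.xL R) = hG.xN r (1 : F) * (hG.xL R * hG.xN r (1 : F)) * hG.xL R := by group
      _ = hG.xN r (1 : F) * (hG.xN r (1 : F) * hG.xL R) * hG.xL R := by rw [h2]
      _ = (hG.xN r (1 : F) * hG.xN r (1 : F)) * (hG.xL R * hG.xL R) := by group
      _ = 1 := by rw [h1, ih (fun s hs => hl s (List.mem_cons_of_mem _ hs)) hp.2]; simp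

lemma mL_eq (L : List ℕ) : mL D F L = ((hG.xL L : GL D.Idx F) : Matrix D.Idx D.Idx F) - 1 := by
  rw [hG.xL_coe]
  rfl

end Tbl.Good2

/-- Every involution of the group is conjugate to a representative. -/
theorem inv_conj_rep [Finite F] [CharP F 2] (hG3 : T.Good3 D) {L' : ℕ → ℤ} (hSL : SLFacts D L') (hF : TreeFacts T D)
    (Reps : List (List ℕ)) (F₀ F₀' G₀ : List ℕ)
    (hw : T.chkWEq 2 (wL G₀ ++ wL F₀) (wL F₀' ++ wL G₀) = true) (hcc : chkCC T F₀ G₀ = true)
    (hF₀ : ∀ f ∈ F₀, f < D.nroots)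
    (hsub : F₀'.Sublist F₀) (hlen : F₀'.length < F₀.length) (hne : F₀' ≠ []) (ok : List ℕ → Bool) (fuel : ℕ)
    (htree : chkTree T ok fuel (List.range T.l) [] = true)
    (hok : ∀ A, ok A = true → A = [] ∨ ∃ w : List ℕ, (∀ i ∈ w, i < D.rank) ∧
      ((∃ rep ∈ Reps, (A.map (wperm T w)).Perm rep) ∨ ∃ B, (A.map (wperm T w)).Perm (F₀ ++ B)))
    {v : GL D.Idx F} (hv : v ∈ D.group F) (h2 : v * v = 1) (h1 : v ≠ 1) :
    ∃ rep ∈ Reps, ∃ h ∈ D.group F, h * v * h⁻¹ = hG3.toGood2.xL rep := by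
  have hG := hG3.toGood2
  obtain ⟨g₁, hg₁, hu⟩ := exists_conj_U hG3 hv h2
  have hu2 : (g₁ * v * g₁⁻¹) * (g₁ * v * g₁⁻¹) = 1 := by
    have e' : g₁ * v * g₁⁻¹ * (g₁ * v * g₁⁻¹) = g₁ * (v * v) * g₁⁻¹ := by group
    rw [e', h2]
    simp
  obtain ⟨l, g₂, hg₂, e₂, hl, hp⟩ := hG.elim_all hSL D.nroots (PR D) hG.cp_top (fun Q hQ => by
    have : Q ⊆ Finset.range D.nroots := fun w hw => Finset.mem_range.2 (hQ w hw).1
    simpa using Finset.card_le_card this) _ (hG.U_le_rootsGen hu) hu2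
  obtain ⟨g₃, hg₃, e₃, _⟩ := hG.torus hSL l hl hp
  have hRl : ∀ r ∈ l.map Prod.fst, r < D.nroots := fun r hr => by
    obtain ⟨x, hx, rfl⟩ := List.mem_map.1 hr
    exact (hl x hx).1.1
  have hRp : (l.map Prod.fst).Pairwise (Or2 D) := by
    rw [List.pairwise_map]
    refine List.Pairwise.imp_of_mem (fun {a b} ha hb h => ⟨h, ?_⟩) hp
    rw [← hSL.sym a.1 b.1 (hl a ha).1 (hl b hb).1]
    exact h
  have hRne : l.map Prod.fst ≠ [] := by
    intro h0
    apply h1
    have h3 : l = [] := List.map_eq_nil_iff.1 h0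
    rw [h3, hG.gW_nil] at e₂
    have h4 : g₂ * (g₁ * v * g₁⁻¹) * g₂⁻¹ = 1 := e₂
    have h5 : g₁ * v * g₁⁻¹ = 1 := by
      have := congrArg (fun a => g₂⁻¹ * a * g₂) h4
      simpa [mul_assoc] using this
    have := congrArg (fun a => g₁⁻¹ * a * g₁) h5
    simpa [mul_assoc] using this
  obtain ⟨h5, h6⟩ := hG.fusion_of_chk (F := F) hF hF₀ hw hcc
  obtain ⟨rep, hrep, h, hh, e⟩ := hG.fuse_all hF Reps F₀ F₀' (hG.xL_mem G₀) h5 h6 hsub hlen hne ok fuel htree hok _ _ le_rfl hRl hRp hRne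
  refine ⟨rep, hrep, h * g₃ * g₂ * g₁, ?_, ?_⟩
  · refine Subgroup.mul_mem _ (Subgroup.mul_mem _ (Subgroup.mul_mem _ hh hg₃) (hG.rootsGen_le_group (fun w hw => hw.1) hg₂)) hg₁
  · rw [← e, ← e₃, ← e₂]
    group

/-- The classes of involutions, from the conjugacy statement and the ranks. -/
theorem final_three [Fintype F] [CharP F 2] (hG : T.Good2 D) (hF : TreeFacts T D) (Reps : List (List ℕ))
    (hreps : ∀ rep ∈ Reps, (∀ r ∈ rep, r < D.nroots) ∧ rep.Pairwise (Or2 D)) (rk : List ℕ → ℕ)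
    (hrk : ∀ rep ∈ Reps, (mL D F rep).rank = rk rep ∧ 0 < rk rep)
    (hinj : ∀ a ∈ Reps, ∀ b ∈ Reps, rk a = rk b → a = b)
    (hconj : ∀ v ∈ D.group F, v * v = 1 → v ≠ 1 → ∃ rep ∈ Reps, ∃ h ∈ D.group F, h * v * h⁻¹ = hG.xL rep) :
    (∀ y : GL D.Idx F, (y : Matrix D.Idx D.Idx F) ∈ Reps.map (fun rep => D.wordMat F (rep.map fun r => (r, (1 : F)))) →
        y ∈ D.group F ∧ orderOf y = 2) ∧
    (∀ g ∈ D.group F, orderOf g = 2 → ∃ y ∈ D.group F,
        (y : Matrix D.Idx D.Idx F) ∈ Reps.map (fun rep => D.wordMat F (rep.map fun r => (r, (1 : F)))) ∧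
        ∃ h ∈ D.group F, h * g * h⁻¹ = y) ∧
    (∀ y₁ ∈ D.group F, ∀ y₂ ∈ D.group F,
        (y₁ : Matrix D.Idx D.Idx F) ∈ Reps.map (fun rep => D.wordMat F (rep.map fun r => (r, (1 : F)))) →
        (y₂ : Matrix D.Idx D.Idx F) ∈ Reps.map (fun rep => D.wordMat F (rep.map fun r => (r, (1 : F)))) →
        (∃ h ∈ D.group F, h * y₁ * h⁻¹ = y₂) → (y₁ : Matrix D.Idx D.Idx F) = (y₂ : Matrix D.Idx D.Idx F)) := by
  have hfr : ∀ y : GL D.Idx F, (y : Matrix D.Idx D.Idx F) ∈ Reps.map (fun rep => D.wordMat F (rep.map fun r => (r, (1 : F)))) →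
      ∃ rep ∈ Reps, y = hG.xL rep := by
    intro y hy
    obtain ⟨rep, hrep, e⟩ := List.mem_map.1 hy
    exact ⟨rep, hrep, Units.ext (by rw [hG.xL_coe]; exact e.symm)⟩
  haveI : Fact (Nat.Prime 2) := ⟨Nat.prime_two⟩
  have hord : ∀ rep ∈ Reps, orderOf (hG.xL rep : GL D.Idx F) = 2 := by
    intro rep hrep
    apply orderOf_eq_prime
    · rw [pow_two]
      exact hG.xL_sq hF (hreps rep hrep).1 (hreps rep hrep).2
    · intro h1
      have h2 := hrk rep hrep
      rw [hG.mL_eq, h1] at h2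
      simp at h2
      omega
  refine ⟨?_, ?_, ?_⟩
  · intro y hy
    obtain ⟨rep, hrep, rfl⟩ := hfr y hy
    exact ⟨hG.xL_mem rep, hord rep hrep⟩
  · intro g hg ho
    have h1 : g * g = 1 := by
      rw [← pow_two, ← ho]
      exact pow_orderOf_eq_one g
    have h2 : g ≠ 1 := by
      rintro rfl
      simp at ho
    obtain ⟨rep, hrep, h, hh, e⟩ := hconj g hg h1 h2
    refine ⟨hG.xL rep, hG.xL_mem rep, ?_, h, hh, e⟩
    rw [hG.xL_coe]
    exact List.mem_map.2 ⟨rep, hrep, rfl⟩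
  · intro y₁ _ y₂ _ h₁ h₂ ⟨h, _, e⟩
    obtain ⟨rep₁, hrep₁, rfl⟩ := hfr y₁ h₁
    obtain ⟨rep₂, hrep₂, rfl⟩ := hfr y₂ h₂
    have h3 := rank_conj_sub_one h (hG.xL rep₁ : GL D.Idx F)
    rw [e, ← hG.mL_eq, ← hG.mL_eq, (hrk rep₁ hrep₁).1, (hrk rep₂ hrep₂).1] at h3
    rw [hinj rep₁ hrep₁ rep₂ hrep₂ h3.symm]

/-- The number of classes of involutions, from the conjugacy statement and the ranks. -/
theorem final_count [Fintype F] [CharP F 2] (hG : T.Good2 D) (hF : TreeFacts T D) (Reps : List (List ℕ)) (hnd : Reps.Nodup)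
    (hreps : ∀ rep ∈ Reps, (∀ r ∈ rep, r < D.nroots) ∧ rep.Pairwise (Or2 D)) (rk : List ℕ → ℕ)
    (hrk : ∀ rep ∈ Reps, (mL D F rep).rank = rk rep ∧ 0 < rk rep)
    (hinj : ∀ a ∈ Reps, ∀ b ∈ Reps, rk a = rk b → a = b)
    (hconj : ∀ v ∈ D.group F, v * v = 1 → v ≠ 1 → ∃ rep ∈ Reps, ∃ h ∈ D.group F, h * v * h⁻¹ = hG.xL rep) :
    (ConjClasses.mk '' {g : ↥(D.group F) | orderOf g = 2}).ncard = Reps.length := by
  haveI : Fact (Nat.Prime 2) := ⟨Nat.prime_two⟩
  have hord : ∀ rep ∈ Reps, orderOf (hG.xL rep : GL D.Idx F) = 2 := by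
    intro rep hrep
    apply orderOf_eq_prime
    · rw [pow_two]
      exact hG.xL_sq hF (hreps rep hrep).1 (hreps rep hrep).2
    · intro h1
      have h2 := hrk rep hrep
      rw [hG.mL_eq, h1] at h2
      simp at h2
      omega
  let f : Fin Reps.length → ConjClasses ↥(D.group F) := fun i => ConjClasses.mk ⟨hG.xL Reps[i.val], hG.xL_mem _⟩
  have hinjf : Function.Injective f := by
    intro i j hij
    have h1 : IsConj (⟨hG.xL Reps[i.val], hG.xL_mem _⟩ : ↥(D.group F)) ⟨hG.xL Reps[j.val], hG.xL_mem _⟩ :=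
      ConjClasses.mk_eq_mk_iff_isConj.1 hij
    obtain ⟨c, hc⟩ := isConj_iff.1 h1
    have h2 := congrArg Subtype.val hc
    simp only [Subgroup.coe_mul, InvMemClass.coe_inv] at h2
    have h3 := rank_conj_sub_one (c : GL D.Idx F) (hG.xL Reps[i.val] : GL D.Idx F)
    rw [h2, ← hG.mL_eq, ← hG.mL_eq, (hrk _ (List.getElem_mem _)).1, (hrk _ (List.getElem_mem _)).1] at h3
    have h4 := hinj _ (List.getElem_mem _) _ (List.getElem_mem _) h3
    have h5 := (List.Nodup.getElem_inj_iff hnd).1 h4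
    exact Fin.ext h5.symm
  have hset : ConjClasses.mk '' {g : ↥(D.group F) | orderOf g = 2} = f '' Set.univ := by
    ext x
    constructor
    · rintro ⟨g, hg, rfl⟩
      have hg' : orderOf (g : GL D.Idx F) = 2 := by
        rw [Subgroup.orderOf_coe]
        exact hg
      have h1 : (g : GL D.Idx F) * g = 1 := by
        rw [← pow_two, ← hg']
        exact pow_orderOf_eq_one _
      have h2 : (g : GL D.Idx F) ≠ 1 := by
        intro h3
        rw [h3] at hg'
        simp at hg'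
      obtain ⟨rep, hrep, h, hh, e⟩ := hconj g g.2 h1 h2
      obtain ⟨i, hi, rfl⟩ := List.getElem_of_mem hrep
      refine ⟨⟨i, hi⟩, trivial, ?_⟩
      apply ConjClasses.mk_eq_mk_iff_isConj.2
      apply IsConj.symm
      apply isConj_iff.2
      exact ⟨⟨h, hh⟩, Subtype.ext e⟩
    · rintro ⟨i, _, rfl⟩
      refine ⟨⟨hG.xL Reps[i.val], hG.xL_mem _⟩, ?_, rfl⟩
      show orderOf _ = 2
      rw [← Subgroup.orderOf_coe]
      exact hord _ (List.getElem_mem _)
  rw [hset, Set.ncard_image_of_injective _ hinjf, Set.ncard_univ]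
  simp

end

end Cfsg.Agent.Lib.Chev
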