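/-
Involutions in the Chevalley group of type E8 in characteristic two: the certificates.
-/
import Cfsg.Agent.Lib.ChInv.Main
import Cfsg.Agent.Lib.Chev.T3E8

set_option autoImplicit false
set_option maxHeartbeats 0
set_option maxRecDepth 100000

namespace Cfsg.Agent.Lib.Chev

open Cfsg.Lie

/-- The additive function on the roots. -/
def muE8 : List ℤ := [91303421522,115437482283,160736843044,230145964566,184116793805,138087596044,92058397383,46029198692]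

/-- The representatives. -/
def repsE8 : List (List ℕ) := [[239],[232,233],[228,222,218],[226,220,213,216]]

/-- The frame. -/
def frE8 : List ℕ := [126,135,141,152]

/-- The frame after the fusion. -/
def frE8' : List ℕ := [135,141,152]

/-- The fusing word. -/
def gwE8 : List ℕ := [131,109,103,97]

/-- The certificates at the nodes of the tree. -/
def certsE8 : List (List ℕ × List ℕ × List ℕ) :=
  [([239],[],[]),([239,226],[1,3,4,5,6,7],[]),([239,226,159],[2,3,0,2,1,3,4,5,6,7,1,3,2,0],[]),([239,226,159,121],[5,6,7,4,5,6,0,2,3,4,5,1,3,4,2,3,0,2,1,3,4,5,6,7,5,3,4,2,3,0,2,1,3,4,5,6,2,3,0,2,1,3,4,5,1,3,2,0],[]),([239,226,159,121,152],[5,6,7,4,5,6,0,2,3,4,5,1,3,4,2,3,0,2,1,3,4,5,6,7,5,3,4,2,3,0,2,1,3,4,5,6,2,3,0,2,1,3,4,5,1,3,2,0],[239]),([239,226,159,121,152,126],[5,6,7,4,5,6,0,2,3,4,5,1,3,4,2,3,0,2,1,3,4,5,6,7,5,3,4,2,3,0,2,1,3,4,5,6,2,3,0,2,1,3,4,5,1,3,2,0],[239,226]),([23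9,226,159,121,152,126,135],[5,6,7,4,5,6,0,2,3,4,5,1,3,4,2,3,0,2,1,3,4,5,6,7,5,3,4,2,3,0,2,1,3,4,5,6,2,3,0,2,1,3,4,5,1,3,2,0],[239,226,121]),([239,226,159,121,152,126,135,141],[5,6,7,4,5,6,0,2,3,4,5,1,3,4,2,3,0,2,1,3,4,5,6,7,5,3,4,2,3,0,2,1,3,4,5,6,2,3,0,2,1,3,4,5,1,3,2,0],[239,226,121,159]),([239,226,159,121,152,126,141],[5,6,7,4,5,6,0,2,3,4,5,1,3,4,2,3,0,2,1,3,4,5,6,7,5,3,4,2,3,0,2,1,3,4,5,6,2,3,0,2,1,3,4,5,1,3,2,0],[239,226,159]),([239,226,159,121,152,126,141,135],[5,6,7,4,5,6,0,2,3,4,5,1,3,4,2,3,0,2,1,3,4,5,6,7,5,3,4,2,3,0,2,1,3,4,5,6,2,3,0,2,1,3,4,5,1,3,2,0],[239,226,121,159]),([239,226,159,121,152,135],[5,6,7,4,5,6,0,2,3,4,5,1,3,4,2,3,0,2,1,3,4,5,6,7,5,3,4,2,3,0,2,1,3,4,5,6,2,3,0,2,1,3,4,5,1,3,2,0],[239,121]),([239,226,159,121,152,135,126],[5,6,7,4,5,6,0,2,3,4,5,1,3,4,2,3,0,2,1,3,4,5,6,7,5,3,4,2,3,0,2,1,3,4,5,6,2,3,0,2,1,3,4,5,1,3,2,0],[239,226,121]),([239,226,159,121,1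52,135,126,141],[5,6,7,4,5,6,0,2,3,4,5,1,3,4,2,3,0,2,1,3,4,5,6,7,5,3,4,2,3,0,2,1,3,4,5,6,2,3,0,2,1,3,4,5,1,3,2,0],[239,226,121,159]),([239,226,159,121,152,135,141],[5,6,7,4,5,6,0,2,3,4,5,1,3,4,2,3,0,2,1,3,4,5,6,7,5,3,4,2,3,0,2,1,3,4,5,6,2,3,0,2,1,3,4,5,1,3,2,0],[239,121,159]),([239,226,159,121,152,135,141,126],[5,6,7,4,5,6,0,2,3,4,5,1,3,4,2,3,0,2,1,3,4,5,6,7,5,3,4,2,3,0,2,1,3,4,5,6,2,3,0,2,1,3,4,5,1,3,2,0],[239,226,121,159]),([239,226,159,121,152,141],[5,6,7,4,5,6,0,2,3,4,5,1,3,4,2,3,0,2,1,3,4,5,6,7,5,3,4,2,3,0,2,1,3,4,5,6,2,3,0,2,1,3,4,5,1,3,2,0],[239,159]),([239,226,159,121,152,141,126],[5,6,7,4,5,6,0,2,3,4,5,1,3,4,2,3,0,2,1,3,4,5,6,7,5,3,4,2,3,0,2,1,3,4,5,6,2,3,0,2,1,3,4,5,1,3,2,0],[239,226,159]),([239,226,159,121,152,141,126,135],[5,6,7,4,5,6,0,2,3,4,5,1,3,4,2,3,0,2,1,3,4,5,6,7,5,3,4,2,3,0,2,1,3,4,5,6,2,3,0,2,1,3,4,5,1,3,2,0],[239,226,121,159]),([239,226,159,121,152,141,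135],[5,6,7,4,5,6,0,2,3,4,5,1,3,4,2,3,0,2,1,3,4,5,6,7,5,3,4,2,3,0,2,1,3,4,5,6,2,3,0,2,1,3,4,5,1,3,2,0],[239,121,159]),([239,226,159,121,152,141,135,126],[5,6,7,4,5,6,0,2,3,4,5,1,3,4,2,3,0,2,1,3,4,5,6,7,5,3,4,2,3,0,2,1,3,4,5,6,2,3,0,2,1,3,4,5,1,3,2,0],[239,226,121,159]),([239,226,159,152],[3,4,2,3,0,2,1,3,4,5,6,7,1,3,4,5,1,3,2,0],[]),([239,226,159,152,121],[5,6,7,4,5,6,0,2,3,4,5,1,3,4,2,3,0,2,1,3,4,5,6,7,5,3,4,2,3,0,2,1,3,4,5,6,2,3,0,2,1,3,4,5,1,3,2,0],[239]),([239,226,159,152,121,126],[5,6,7,4,5,6,0,2,3,4,5,1,3,4,2,3,0,2,1,3,4,5,6,7,5,3,4,2,3,0,2,1,3,4,5,6,2,3,0,2,1,3,4,5,1,3,2,0],[239,226]),([239,226,159,152,121,126,135],[5,6,7,4,5,6,0,2,3,4,5,1,3,4,2,3,0,2,1,3,4,5,6,7,5,3,4,2,3,0,2,1,3,4,5,6,2,3,0,2,1,3,4,5,1,3,2,0],[239,226,121]),([239,226,159,152,121,126,135,141],[5,6,7,4,5,6,0,2,3,4,5,1,3,4,2,3,0,2,1,3,4,5,6,7,5,3,4,2,3,0,2,1,3,4,5,6,2,3,0,2,1,3,4,5,1,3,2,0],[239,226,12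1,159]),([239,226,159,152,121,126,141],[5,6,7,4,5,6,0,2,3,4,5,1,3,4,2,3,0,2,1,3,4,5,6,7,5,3,4,2,3,0,2,1,3,4,5,6,2,3,0,2,1,3,4,5,1,3,2,0],[239,226,159]),([239,226,159,152,121,126,141,135],[5,6,7,4,5,6,0,2,3,4,5,1,3,4,2,3,0,2,1,3,4,5,6,7,5,3,4,2,3,0,2,1,3,4,5,6,2,3,0,2,1,3,4,5,1,3,2,0],[239,226,121,159]),([239,226,159,152,121,135],[5,6,7,4,5,6,0,2,3,4,5,1,3,4,2,3,0,2,1,3,4,5,6,7,5,3,4,2,3,0,2,1,3,4,5,6,2,3,0,2,1,3,4,5,1,3,2,0],[239,121]),([239,226,159,152,121,135,126],[5,6,7,4,5,6,0,2,3,4,5,1,3,4,2,3,0,2,1,3,4,5,6,7,5,3,4,2,3,0,2,1,3,4,5,6,2,3,0,2,1,3,4,5,1,3,2,0],[239,226,121]),([239,226,159,152,121,135,126,141],[5,6,7,4,5,6,0,2,3,4,5,1,3,4,2,3,0,2,1,3,4,5,6,7,5,3,4,2,3,0,2,1,3,4,5,6,2,3,0,2,1,3,4,5,1,3,2,0],[239,226,121,159]),([239,226,159,152,121,135,141],[5,6,7,4,5,6,0,2,3,4,5,1,3,4,2,3,0,2,1,3,4,5,6,7,5,3,4,2,3,0,2,1,3,4,5,6,2,3,0,2,1,3,4,5,1,3,2,0],[239,121,159]),([239,2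26,159,152,121,135,141,126],[5,6,7,4,5,6,0,2,3,4,5,1,3,4,2,3,0,2,1,3,4,5,6,7,5,3,4,2,3,0,2,1,3,4,5,6,2,3,0,2,1,3,4,5,1,3,2,0],[239,226,121,159]),([239,226,159,152,121,141],[5,6,7,4,5,6,0,2,3,4,5,1,3,4,2,3,0,2,1,3,4,5,6,7,5,3,4,2,3,0,2,1,3,4,5,6,2,3,0,2,1,3,4,5,1,3,2,0],[239,159]),([239,226,159,152,121,141,126],[5,6,7,4,5,6,0,2,3,4,5,1,3,4,2,3,0,2,1,3,4,5,6,7,5,3,4,2,3,0,2,1,3,4,5,6,2,3,0,2,1,3,4,5,1,3,2,0],[239,226,159]),([239,226,159,152,121,141,126,135],[5,6,7,4,5,6,0,2,3,4,5,1,3,4,2,3,0,2,1,3,4,5,6,7,5,3,4,2,3,0,2,1,3,4,5,6,2,3,0,2,1,3,4,5,1,3,2,0],[239,226,121,159]),([239,226,159,152,121,141,135],[5,6,7,4,5,6,0,2,3,4,5,1,3,4,2,3,0,2,1,3,4,5,6,7,5,3,4,2,3,0,2,1,3,4,5,6,2,3,0,2,1,3,4,5,1,3,2,0],[239,121,159]),([239,226,159,152,121,141,135,126],[5,6,7,4,5,6,0,2,3,4,5,1,3,4,2,3,0,2,1,3,4,5,6,7,5,3,4,2,3,0,2,1,3,4,5,6,2,3,0,2,1,3,4,5,1,3,2,0],[239,226,121,159]),([239,226,159,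152,126],[5,6,7,4,5,6,0,2,3,4,5,1,3,4,2,3,0,2,1,3,4,5,6,7,5,4,3,2,1,3,4,5,3,0,2,1,3,4,0,2,1,3,2,0],[239]),([239,226,159,152,126,121],[5,6,7,4,5,6,0,2,3,4,5,1,3,4,2,3,0,2,1,3,4,5,6,7,5,3,4,2,3,0,2,1,3,4,5,6,2,3,0,2,1,3,4,5,1,3,2,0],[239,226]),([239,226,159,152,126,121,135],[5,6,7,4,5,6,0,2,3,4,5,1,3,4,2,3,0,2,1,3,4,5,6,7,5,3,4,2,3,0,2,1,3,4,5,6,2,3,0,2,1,3,4,5,1,3,2,0],[239,226,121]),([239,226,159,152,126,121,135,141],[5,6,7,4,5,6,0,2,3,4,5,1,3,4,2,3,0,2,1,3,4,5,6,7,5,3,4,2,3,0,2,1,3,4,5,6,2,3,0,2,1,3,4,5,1,3,2,0],[239,226,121,159]),([239,226,159,152,126,121,141],[5,6,7,4,5,6,0,2,3,4,5,1,3,4,2,3,0,2,1,3,4,5,6,7,5,3,4,2,3,0,2,1,3,4,5,6,2,3,0,2,1,3,4,5,1,3,2,0],[239,226,159]),([239,226,159,152,126,121,141,135],[5,6,7,4,5,6,0,2,3,4,5,1,3,4,2,3,0,2,1,3,4,5,6,7,5,3,4,2,3,0,2,1,3,4,5,6,2,3,0,2,1,3,4,5,1,3,2,0],[239,226,121,159]),([239,226,159,152,126,135],[5,6,7,4,5,6,0,2,3,4,5,1,3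,4,2,3,0,2,1,3,4,5,6,7,5,4,3,2,1,3,4,5,3,0,2,1,3,4,0,2,1,3,2,0],[239,121]),([239,226,159,152,126,135,121],[5,6,7,4,5,6,0,2,3,4,5,1,3,4,2,3,0,2,1,3,4,5,6,7,5,3,4,2,3,0,2,1,3,4,5,6,2,3,0,2,1,3,4,5,1,3,2,0],[239,226,121]),([239,226,159,152,126,135,121,141],[5,6,7,4,5,6,0,2,3,4,5,1,3,4,2,3,0,2,1,3,4,5,6,7,5,3,4,2,3,0,2,1,3,4,5,6,2,3,0,2,1,3,4,5,1,3,2,0],[239,226,121,159]),([239,226,159,152,126,135,141],[5,6,7,4,5,6,0,2,3,4,5,1,3,4,2,3,0,2,1,3,4,5,6,7,5,4,3,2,1,3,4,5,3,0,2,1,3,4,0,2,1,3,2,0],[239,121,159]),([239,226,159,152,126,135,141,121],[5,6,7,4,5,6,0,2,3,4,5,1,3,4,2,3,0,2,1,3,4,5,6,7,5,3,4,2,3,0,2,1,3,4,5,6,2,3,0,2,1,3,4,5,1,3,2,0],[239,226,121,159]),([239,226,159,152,126,141],[5,6,7,4,5,6,0,2,3,4,5,1,3,4,2,3,0,2,1,3,4,5,6,7,5,4,3,2,1,3,4,5,3,0,2,1,3,4,0,2,1,3,2,0],[239,159]),([239,226,159,152,126,141,121],[5,6,7,4,5,6,0,2,3,4,5,1,3,4,2,3,0,2,1,3,4,5,6,7,5,3,4,2,3,0,2,1,3,4,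5,6,2,3,0,2,1,3,4,5,1,3,2,0],[239,226,159]),([239,226,159,152,126,141,121,135],[5,6,7,4,5,6,0,2,3,4,5,1,3,4,2,3,0,2,1,3,4,5,6,7,5,3,4,2,3,0,2,1,3,4,5,6,2,3,0,2,1,3,4,5,1,3,2,0],[239,226,121,159]),([239,226,159,152,126,141,135],[5,6,7,4,5,6,0,2,3,4,5,1,3,4,2,3,0,2,1,3,4,5,6,7,5,4,3,2,1,3,4,5,3,0,2,1,3,4,0,2,1,3,2,0],[239,121,159]),([239,226,159,152,126,141,135,121],[5,6,7,4,5,6,0,2,3,4,5,1,3,4,2,3,0,2,1,3,4,5,6,7,5,3,4,2,3,0,2,1,3,4,5,6,2,3,0,2,1,3,4,5,1,3,2,0],[239,226,121,159]),([239,226,159,152,135],[5,6,0,2,3,4,5,1,3,4,2,3,0,2,1,3,4,5,2,3,0,2,1,3],[239]),([239,226,159,152,135,121],[5,6,7,4,5,6,0,2,3,4,5,1,3,4,2,3,0,2,1,3,4,5,6,7,5,3,4,2,3,0,2,1,3,4,5,6,2,3,0,2,1,3,4,5,1,3,2,0],[239,121]),([239,226,159,152,135,121,126],[5,6,7,4,5,6,0,2,3,4,5,1,3,4,2,3,0,2,1,3,4,5,6,7,5,3,4,2,3,0,2,1,3,4,5,6,2,3,0,2,1,3,4,5,1,3,2,0],[239,226,121]),([239,226,159,152,135,121,126,141],[5,6,7,4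,5,6,0,2,3,4,5,1,3,4,2,3,0,2,1,3,4,5,6,7,5,3,4,2,3,0,2,1,3,4,5,6,2,3,0,2,1,3,4,5,1,3,2,0],[239,226,121,159]),([239,226,159,152,135,121,141],[5,6,7,4,5,6,0,2,3,4,5,1,3,4,2,3,0,2,1,3,4,5,6,7,5,3,4,2,3,0,2,1,3,4,5,6,2,3,0,2,1,3,4,5,1,3,2,0],[239,121,159]),([239,226,159,152,135,121,141,126],[5,6,7,4,5,6,0,2,3,4,5,1,3,4,2,3,0,2,1,3,4,5,6,7,5,3,4,2,3,0,2,1,3,4,5,6,2,3,0,2,1,3,4,5,1,3,2,0],[239,226,121,159]),([239,226,159,152,135,126],[5,6,7,4,5,6,0,2,3,4,5,1,3,4,2,3,0,2,1,3,4,5,6,7,5,4,3,2,1,3,4,5,3,0,2,1,3,4,0,2,1,3,2,0],[239,121]),([239,226,159,152,135,126,121],[5,6,7,4,5,6,0,2,3,4,5,1,3,4,2,3,0,2,1,3,4,5,6,7,5,3,4,2,3,0,2,1,3,4,5,6,2,3,0,2,1,3,4,5,1,3,2,0],[239,226,121]),([239,226,159,152,135,126,121,141],[5,6,7,4,5,6,0,2,3,4,5,1,3,4,2,3,0,2,1,3,4,5,6,7,5,3,4,2,3,0,2,1,3,4,5,6,2,3,0,2,1,3,4,5,1,3,2,0],[239,226,121,159]),([239,226,159,152,135,126,141],[5,6,7,4,5,6,0,2,3,4,5,1,3,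4,2,3,0,2,1,3,4,5,6,7,5,4,3,2,1,3,4,5,3,0,2,1,3,4,0,2,1,3,2,0],[239,121,159]),([239,226,159,152,135,126,141,121],[5,6,7,4,5,6,0,2,3,4,5,1,3,4,2,3,0,2,1,3,4,5,6,7,5,3,4,2,3,0,2,1,3,4,5,6,2,3,0,2,1,3,4,5,1,3,2,0],[239,226,121,159]),([239,226,159,152,135,141],[5,6,7,4,5,6,0,2,3,4,5,1,3,4,2,3,0,2,1,3,4,5,6,7,5,4,3,2,1,3,4,5,0,2,3,4,1,3,2,0],[239,159]),([239,226,159,152,135,141,121],[5,6,7,4,5,6,0,2,3,4,5,1,3,4,2,3,0,2,1,3,4,5,6,7,5,3,4,2,3,0,2,1,3,4,5,6,2,3,0,2,1,3,4,5,1,3,2,0],[239,121,159]),([239,226,159,152,135,141,121,126],[5,6,7,4,5,6,0,2,3,4,5,1,3,4,2,3,0,2,1,3,4,5,6,7,5,3,4,2,3,0,2,1,3,4,5,6,2,3,0,2,1,3,4,5,1,3,2,0],[239,226,121,159]),([239,226,159,152,135,141,126],[5,6,7,4,5,6,0,2,3,4,5,1,3,4,2,3,0,2,1,3,4,5,6,7,5,4,3,2,1,3,4,5,3,0,2,1,3,4,0,2,1,3,2,0],[239,121,159]),([239,226,159,152,135,141,126,121],[5,6,7,4,5,6,0,2,3,4,5,1,3,4,2,3,0,2,1,3,4,5,6,7,5,3,4,2,3,0,2,1,3,4,5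,6,2,3,0,2,1,3,4,5,1,3,2,0],[239,226,121,159]),([239,226,159,152,141],[5,6,7,4,5,6,0,2,3,4,5,1,3,4,2,3,0,2,1,3,4,5,6,7,5,4,3,2,1,3,4,5,3,2,1,3],[239]),([239,226,159,152,141,121],[5,6,7,4,5,6,0,2,3,4,5,1,3,4,2,3,0,2,1,3,4,5,6,7,5,3,4,2,3,0,2,1,3,4,5,6,2,3,0,2,1,3,4,5,1,3,2,0],[239,159]),([239,226,159,152,141,121,126],[5,6,7,4,5,6,0,2,3,4,5,1,3,4,2,3,0,2,1,3,4,5,6,7,5,3,4,2,3,0,2,1,3,4,5,6,2,3,0,2,1,3,4,5,1,3,2,0],[239,226,159]),([239,226,159,152,141,121,126,135],[5,6,7,4,5,6,0,2,3,4,5,1,3,4,2,3,0,2,1,3,4,5,6,7,5,3,4,2,3,0,2,1,3,4,5,6,2,3,0,2,1,3,4,5,1,3,2,0],[239,226,121,159]),([239,226,159,152,141,121,135],[5,6,7,4,5,6,0,2,3,4,5,1,3,4,2,3,0,2,1,3,4,5,6,7,5,3,4,2,3,0,2,1,3,4,5,6,2,3,0,2,1,3,4,5,1,3,2,0],[239,121,159]),([239,226,159,152,141,121,135,126],[5,6,7,4,5,6,0,2,3,4,5,1,3,4,2,3,0,2,1,3,4,5,6,7,5,3,4,2,3,0,2,1,3,4,5,6,2,3,0,2,1,3,4,5,1,3,2,0],[239,226,121,159]),([239,22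6,159,152,141,126],[5,6,7,4,5,6,0,2,3,4,5,1,3,4,2,3,0,2,1,3,4,5,6,7,5,4,3,2,1,3,4,5,3,0,2,1,3,4,0,2,1,3,2,0],[239,159]),([239,226,159,152,141,126,121],[5,6,7,4,5,6,0,2,3,4,5,1,3,4,2,3,0,2,1,3,4,5,6,7,5,3,4,2,3,0,2,1,3,4,5,6,2,3,0,2,1,3,4,5,1,3,2,0],[239,226,159]),([239,226,159,152,141,126,121,135],[5,6,7,4,5,6,0,2,3,4,5,1,3,4,2,3,0,2,1,3,4,5,6,7,5,3,4,2,3,0,2,1,3,4,5,6,2,3,0,2,1,3,4,5,1,3,2,0],[239,226,121,159]),([239,226,159,152,141,126,135],[5,6,7,4,5,6,0,2,3,4,5,1,3,4,2,3,0,2,1,3,4,5,6,7,5,4,3,2,1,3,4,5,3,0,2,1,3,4,0,2,1,3,2,0],[239,121,159]),([239,226,159,152,141,126,135,121],[5,6,7,4,5,6,0,2,3,4,5,1,3,4,2,3,0,2,1,3,4,5,6,7,5,3,4,2,3,0,2,1,3,4,5,6,2,3,0,2,1,3,4,5,1,3,2,0],[239,226,121,159]),([239,226,159,152,141,135],[5,6,7,4,5,6,0,2,3,4,5,1,3,4,2,3,0,2,1,3,4,5,6,7,5,4,3,2,1,3,4,5,0,2,3,4,1,3,2,0],[239,159]),([239,226,159,152,141,135,121],[5,6,7,4,5,6,0,2,3,4,5,1,3,4,2,3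,0,2,1,3,4,5,6,7,5,3,4,2,3,0,2,1,3,4,5,6,2,3,0,2,1,3,4,5,1,3,2,0],[239,121,159]),([239,226,159,152,141,135,121,126],[5,6,7,4,5,6,0,2,3,4,5,1,3,4,2,3,0,2,1,3,4,5,6,7,5,3,4,2,3,0,2,1,3,4,5,6,2,3,0,2,1,3,4,5,1,3,2,0],[239,226,121,159]),([239,226,159,152,141,135,126],[5,6,7,4,5,6,0,2,3,4,5,1,3,4,2,3,0,2,1,3,4,5,6,7,5,4,3,2,1,3,4,5,3,0,2,1,3,4,0,2,1,3,2,0],[239,121,159]),([239,226,159,152,141,135,126,121],[5,6,7,4,5,6,0,2,3,4,5,1,3,4,2,3,0,2,1,3,4,5,6,7,5,3,4,2,3,0,2,1,3,4,5,6,2,3,0,2,1,3,4,5,1,3,2,0],[239,226,121,159])]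

theorem chkSLE8 : chkSL digE8.tbl (fun i => muE8.getD i 0) = true := by decide +kernel

theorem chkTFE8 : chkTF digE8.tbl = true := by decide +kernel

theorem chkTreeE8 : chkTree digE8.tbl (nodeOK digE8.tbl certsE8 repsE8 frE8) 9 (List.range digE8.tbl.l) [] = true := by decide +kernel

theorem chkWE8 : digE8.tbl.chkWEq 2 (wL gwE8 ++ wL frE8) (wL frE8' ++ wL gwE8) = true := by decide +kernel

theorem chkCCE8 : chkCC digE8.tbl frE8 gwE8 = true := by decide +kernel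

/-- The columns of the rank certificate, 0. -/
def rCE80 : List ℕ := [247,0,1,2,3,4,5,6,7,8,9,10,11,12,14,15,16,17,18,19,21,22,23,24,26,27,28,30,31,33,36,37,38,40,41,43,46,47,49,52,56,57,59,62,66,71,78,79,81,84,88,93,99,105,110,114,117,119]

/-- The sums of columns of the rank certificate, 0. -/
def rFE80 : List (List ℕ) := [[0],[1],[2],[3],[4],[5],[6],[7],[8],[9],[10],[11],[12],[],[14],[15],[16],[17],[18],[19],[],[21],[22],[23],[24],[],[26],[27],[28],[],[30],[31],[],[33],[],[],[36],[37],[38],[],[40],[41],[],[43],[],[],[46],[47],[],[49],[],[],[52],[],[],[],[56],[57],[],[59],[],[],[62],[],[],[],[66],[],[],[],[],[71],[],[],[],[],[],[],[78],[79],[],[81],[],[],[84],[],[],[],[88],[],[],[],[],[93],[],[],[],[],[],[99],[],[],[],[],[],[105],[],[],[],[],[110],[],[],[],[114],[],[],[117],[],[119],[],[],[],[],[],[],[],[],[],[],[],[],[],[],[],[],[],[],[],[],[],[],[],[],[],[],[],[],[],[],[],[],[],[],[],[],[],[],[],[],[],[],[],[],[],[],[],[],[],[],[],[],[],[],[],[],[],[],[],[],[],[],[],[],[],[],[],[],[],[],[],[],[],[],[],[],[],[],[],[],[],[],[],[],[],[],[],[],[],[],[],[],[],[],[],[],[],[],[],[],[],[],[],[],[],[],[],[],[],[],[],[],[],[],[],[],[],[],[],[],[],[],[],[],[],[],[],[247]]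

/-- The echelon form of the rank certificate, 0. -/
def rEE80 : List (ℕ × List ℕ × List ℕ) :=
  [(239,[247],[239]),(238,[119],[238]),(237,[117],[237]),(236,[114],[236]),(235,[110],[235]),(234,[105],[234]),(233,[99],[233]),(232,[93],[232]),(231,[88],[231]),(230,[84],[230]),(229,[81],[229]),(228,[79],[228]),(227,[78],[227]),(225,[71],[225]),(224,[66],[224]),(223,[62],[223]),(222,[59],[222]),(221,[57],[221]),(220,[56],[220]),(218,[52],[218]),(217,[49],[217]),(216,[47],[216]),(215,[46],[215]),(213,[43],[213]),(212,[41],[212]),(211,[40],[211]),(209,[38],[209]),(208,[37],[208]),(206,[36],[206]),(203,[33],[203]),(202,[31],[202]),(201,[30],[201]),(199,[28],[199]),(198,[27],[198]),(196,[26],[196]),(193,[24],[193]),(192,[23],[192]),(190,[22],[190]),(187,[21],[187]),(183,[19],[183]),(182,[18],[182]),(180,[17],[180]),(177,[16],[177]),(173,[15],[173]),(168,[14],[168]),(161,[12],[161]),(160,[11],[160]),(158,[10],[158]),(155,[9],[155]),(151,[8],[151]),(146,[7],[146]),(140,[6],[140]),(134,[5],[134]),(129,[4],[129]),(125,[3],[125]),(122,[2],[122]),(120,[1],[120]),(246,[247,0],[241,244,246])]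

theorem chkUpE80 : chkUp digE8.tbl [239] rCE80 rFE80 = true := by decide +kernel

theorem chkLoE80 : chkLo digE8.tbl [239] rEE80 = true := by decide +kernel

/-- The columns of the rank certificate, 1. -/
def rCE81 : List ℕ := [240,241,0,1,2,3,4,5,6,7,8,9,10,11,12,13,14,15,16,17,18,19,20,21,22,23,24,25,26,27,28,29,30,31,32,33,34,35,36,37,38,39,40,41,42,43,44,45,46,47,48,49,50,51,52,53,54,55,56,57,58,59,60,61,62,63,64,65,66,67,68,69,70,71,72,73,74,75,76,77,93,94,95,96,97,98,135,136,137,138,139,140]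

/-- The sums of columns of the rank certificate, 1. -/
def rFE81 : List (List ℕ) := [[0],[1],[2],[3],[4],[5],[6],[7],[8],[9],[10],[11],[12],[13],[14],[15],[16],[17],[18],[19],[20],[21],[22],[23],[24],[25],[26],[27],[28],[29],[30],[31],[32],[33],[34],[35],[36],[37],[38],[39],[40],[41],[42],[43],[44],[45],[46],[47],[48],[49],[50],[51],[52],[53],[54],[55],[56],[57],[58],[59],[60],[61],[62],[63],[64],[65],[66],[67],[68],[69],[70],[71],[72],[73],[74],[75],[76],[77],[],[],[],[],[],[],[],[],[],[],[],[],[],[],[],[93],[94],[95],[96],[97],[98],[93],[94],[95],[96],[97],[98],[],[],[],[],[],[],[],[],[],[],[],[],[],[],[],[],[],[],[],[],[],[],[],[],[],[],[],[],[],[],[135],[136],[137],[138],[139],[140],[135],[136],[137],[138],[139],[140],[],[],[],[],[],[],[],[],[],[],[],[],[],[],[],[],[],[],[],[],[],[],[],[],[],[],[],[],[],[],[],[],[],[],[],[],[],[],[],[],[],[],[],[],[],[],[],[],[],[],[],[],[],[],[],[],[],[],[],[],[],[],[],[],[],[],[],[],[],[],[],[],[],[],[],[],[],[],[],[],[],[],[],[],[],[],[],[],[],[],[],[],[],[240],[241],[241],[],[],[],[],[]]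

/-- The echelon form of the rank certificate, 1. -/
def rEE81 : List (ℕ × List ℕ × List ℕ) :=
  [(239,[13],[140,146,239]),(238,[12],[139,145,238]),(237,[11],[138,144,237]),(236,[10],[137,143,236]),(235,[9],[136,142,235]),(234,[8],[135,141,234]),(233,[240],[233]),(232,[240,241],[232]),(231,[5],[98,104,231]),(230,[4],[97,103,230]),(229,[3],[96,102,229]),(228,[2],[95,101,228]),(227,[1],[94,100,227]),(226,[0],[93,99,226]),(225,[77],[225]),(224,[76],[224]),(223,[75],[223]),(222,[74],[222]),(221,[73],[221]),(220,[72],[220]),(219,[71],[219]),(218,[70],[218]),(217,[69],[217]),(216,[68],[216]),(215,[67],[215]),(214,[66],[214]),(213,[65],[213]),(212,[64],[212]),(211,[63],[211]),(210,[62],[210]),(209,[61],[209]),(208,[60],[208]),(207,[59],[207]),(206,[58],[206]),(205,[57],[205]),(204,[56],[204]),(203,[55],[203]),(202,[54],[202]),(201,[53],[201]),(200,[52],[200]),(199,[51],[199]),(198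,[50],[198]),(197,[49],[197]),(196,[48],[196]),(195,[47],[195]),(194,[46],[194]),(193,[45],[193]),(192,[44],[192]),(191,[43],[191]),(190,[42],[190]),(189,[41],[189]),(188,[40],[188]),(187,[39],[187]),(186,[38],[186]),(185,[37],[185]),(184,[36],[184]),(183,[35],[183]),(182,[34],[182]),(181,[33],[181]),(180,[32],[180]),(179,[31],[179]),(178,[30],[178]),(177,[29],[177]),(176,[28],[176]),(175,[27],[175]),(174,[26],[174]),(173,[25],[173]),(172,[24],[172]),(171,[23],[171]),(170,[22],[170]),(169,[21],[169]),(168,[20],[168]),(167,[19],[167]),(166,[18],[166]),(165,[17],[165]),(164,[16],[164]),(163,[15],[163]),(162,[14],[162]),(146,[13,140],[140,146]),(145,[12,139],[139,145]),(144,[11,138],[138,144]),(143,[10,137],[137,143]),(142,[9,136],[136,142]),(141,[8,135],[135,141]),(104,[5,98],[98,104]),(103,[4,97],[97,103]),(102,[3,96],[96,102]),(101,[2,95],[95,101]),(100,[1,94],[94,100]),(99,[0,93],[93,99]),(247,[240,6],[241,242,243,245,247]),(242,[241,6,7],[241,242])]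

theorem chkUpE81 : chkUp digE8.tbl [232,233] rCE81 rFE81 = true := by decide +kernel

theorem chkLoE81 : chkLo digE8.tbl [232,233] rEE81 = true := by decide +kernel

/-- The columns of the rank certificate, 2. -/
def rCE82 : List ℕ := [240,242,246,0,1,2,3,4,5,6,7,8,9,10,11,12,13,14,15,16,17,18,19,20,21,22,23,24,25,26,27,28,29,30,31,32,33,34,36,37,38,39,40,41,42,43,44,46,47,48,49,50,52,53,54,55,56,57,58,59,60,62,63,65,66,67,69,70,71,72,74,75,76,77,78,79,80,81,82,84,85,88,89,92,93,94,99,100,103,104,105,106,110,111,114,115,117,118,123,126,127,131,132,138,143,144,149,153,156,178]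

/-- The sums of columns of the rank certificate, 2. -/
def rFE82 : List (List ℕ) := [[0],[1],[2],[3],[4],[5],[6],[7],[8],[9],[10],[11],[12],[13],[14],[15],[16],[17],[18],[19],[20],[21],[22],[23],[24],[25],[26],[27],[28],[29],[30],[31],[32],[33],[34],[],[36],[37],[38],[39],[40],[41],[42],[43],[44],[],[46],[47],[48],[49],[50],[],[52],[53],[54],[55],[56],[57],[58],[59],[60],[54],[62],[63],[],[65],[66],[67],[],[69],[70],[71],[72],[],[74],[75],[76],[77],[78],[79],[80],[81],[82],[55],[84],[85],[65],[],[88],[89],[69],[],[92],[93],[94],[70],[92],[],[],[99],[100],[74],[],[103],[104],[105],[106],[75],[103],[],[110],[111],[76],[104],[114],[115],[77],[117],[118],[],[],[],[],[123],[],[],[126],[127],[],[],[],[131],[132],[],[],[126],[131],[],[138],[],[],[],[],[143],[144],[],[],[143],[],[149],[],[],[],[153],[],[],[156],[],[],[52,59,79],[53,60,80],[],[123],[127],[132],[138],[],[],[],[144],[149],[],[],[],[153],[],[],[],[178],[52,59,79],[53,60,80],[],[],[],[156],[178],[52,59,79],[53,60,80],[],[],[],[],[],[],[],[],[],[],[],[],[],[],[],[],[],[],[],[],[],[],[],[],[],[],[],[],[],[],[],[],[],[],[],[],[],[],[],[],[],[],[],[],[],[],[],[],[],[],[],[],[240],[],[242],[],[242],[240],[246],[]]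

/-- The echelon form of the rank certificate, 2. -/
def rEE82 : List (ℕ × List ℕ × List ℕ) :=
  [(239,[1],[53,60,80,160,180,187,239]),(238,[0],[52,59,79,159,179,186,238]),(237,[78],[178,185,237]),(236,[56],[156,184,236]),(235,[46],[153,174,235]),(234,[40],[149,170,234]),(233,[37],[144,169,233]),(232,[30],[138,165,232]),(231,[27],[132,164,231]),(230,[23],[127,163,230]),(229,[18],[123,162,229]),(228,[240],[222,228]),(227,[118],[227]),(226,[117],[226]),(225,[36],[143,147,225]),(224,[26],[131,136,224]),(223,[22],[126,135,223]),(222,[242],[218,222]),(221,[10],[77,116,221]),(220,[115],[220]),(219,[114],[219]),(218,[240,242,246],[218]),(217,[16],[104,113,217]),(216,[9],[76,112,216]),(215,[111],[215]),(214,[110],[214]),(213,[15],[103,108,213]),(212,[8],[75,107,212]),(211,[106],[211]),(210,[105],[210]),(209,[7],[74,101,209]),(208,[100],[208]),(207,[99],[207]),(206,[72],[206]),(205,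[71],[205]),(203,[14],[92,96,203]),(202,[6],[70,95,202]),(201,[94],[201]),(200,[93],[200]),(199,[5],[69,90,199]),(198,[89],[198]),(197,[88],[197]),(196,[67],[196]),(195,[66],[195]),(193,[4],[65,86,193]),(192,[85],[192]),(191,[84],[191]),(190,[63],[190]),(189,[62],[189]),(187,[1,53],[53,60,80,187]),(186,[0,52],[52,59,79,186]),(185,[78,178],[178,185]),(184,[56,156],[156,184]),(183,[3],[55,83,183]),(182,[82],[182]),(181,[81],[181]),(180,[1,60],[53,60,80,180]),(179,[0,59],[52,59,79,179]),(177,[50],[177]),(176,[49],[176]),(174,[46,153],[153,174]),(173,[44],[173]),(172,[43],[172]),(170,[40,149],[149,170]),(169,[37,144],[144,169]),(168,[34],[168]),(167,[33],[167]),(165,[30,138],[138,165]),(164,[27,132],[132,164]),(163,[23,127],[127,163]),(162,[18,123],[123,162]),(161,[2],[54,61,161]),(160,[1,80],[53,60,80,160]),(159,[0,79],[52,59,79,159]),(158,[58],[158]),(157,[57],[157]),(155,[48]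,[155]),(154,[47],[154]),(151,[42],[151]),(150,[41],[150]),(147,[36,143],[143,147]),(146,[39],[146]),(145,[38],[145]),(140,[32],[140]),(139,[31],[139]),(136,[26,131],[131,136]),(135,[22,126],[126,135]),(134,[29],[134]),(133,[28],[133]),(129,[25],[129]),(128,[24],[128]),(125,[20],[125]),(124,[19],[124]),(122,[13],[122]),(121,[12],[121]),(116,[10,77],[77,116]),(113,[16,104],[104,113]),(112,[9,76],[76,112]),(108,[15,103],[103,108]),(107,[8,75],[75,107]),(101,[7,74],[74,101]),(96,[14,92],[92,96]),(95,[6,70],[70,95]),(90,[5,69],[69,90]),(86,[4,65],[65,86]),(83,[3,55],[55,83]),(61,[2,54],[54,61]),(247,[246,11],[242,244,247]),(245,[240,11,17],[240,245]),(244,[242,17,21],[242,244])]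

theorem chkUpE82 : chkUp digE8.tbl [228,222,218] rCE82 rFE82 = true := by decide +kernel

theorem chkLoE82 : chkLo digE8.tbl [228,222,218] rEE82 = true := by decide +kernel

/-- The columns of the rank certificate, 3. -/
def rCE83 : List ℕ := [240,241,242,243,0,1,2,3,4,5,6,7,8,9,10,11,12,13,14,15,16,17,18,19,20,21,22,23,24,25,26,27,28,29,30,31,32,33,34,35,36,37,38,39,40,41,42,43,44,45,46,47,48,49,50,51,52,53,54,55,56,57,58,59,60,61,62,63,64,65,66,67,68,69,70,72,73,74,75,76,77,78,79,80,81,82,83,84,85,86,87,88,89,90,91,92,93,94,95,96,97,98,101,102,103,104,108,109,120,121,122,123,124,125,127,128,129,133,134,140]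

/-- The sums of columns of the rank certificate, 3. -/
def rFE83 : List (List ℕ) := [[0],[1],[2],[3],[4],[5],[6],[7],[8],[9],[10],[11],[12],[13],[14],[15],[16],[17],[18],[19],[20],[21],[22],[23],[24],[25],[26],[27],[28],[29],[30],[31],[32],[33],[34],[35],[36],[37],[38],[39],[40],[41],[42],[43],[44],[45],[46],[47],[48],[49],[50],[51],[52],[53],[54],[55],[56],[57],[58],[59],[60],[61],[62],[63],[64],[65],[66],[67],[68],[69],[70],[],[72],[73],[74],[75],[76],[77],[78],[79],[80],[81],[82],[83],[84],[85],[86],[87],[88],[89],[90],[91],[92],[93],[94],[95],[96],[97],[98],[72],[],[101],[102],[103],[104],[73],[101],[],[108],[109],[74],[102],[108],[],[75],[103],[109],[76],[104],[77],[120],[121],[122],[123],[124],[125],[],[127],[128],[129],[123],[127],[],[133],[134],[121],[124],[128],[133],[],[140],[],[],[],[],[43,47,56],[44,48,78],[],[],[43,47,56],[],[45,58,79],[43,47,56],[],[],[51,60,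81],[],[],[54,63,84],[],[55,67,88],[65,68,93],[120],[122],[125],[129],[134],[140],[],[],[],[44,48,78],[45,58,79],[],[44,48,78],[],[51,60,81],[],[],[54,63,84],[],[55,67,88],[],[87,90,94],[45,58,79],[51,60,81],[],[],[54,63,84],[],[],[65,68,93],[87,90,94],[],[55,67,88],[65,68,93],[87,90,94],[],[],[],[],[],[],[],[],[],[],[],[],[],[],[],[],[],[],[],[],[],[],[],[],[],[],[],[],[],[],[],[],[],[],[],[],[],[],[],[],[],[],[],[240],[241],[242],[243],[],[243],[242],[240]]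

/-- The echelon form of the rank certificate, 3. -/
def rEE83 : List (ℕ × List ℕ × List ℕ) :=
  [(239,[14],[87,90,94,183,192,196,239]),(238,[6],[65,68,93,161,191,195,238]),(237,[5],[55,67,88,160,181,194,237]),(236,[4],[54,63,84,158,179,188,236]),(235,[3],[51,60,81,155,176,185,235]),(234,[2],[45,58,79,151,172,184,234]),(233,[1],[44,48,78,146,171,174,233]),(232,[35],[140,167,232]),(231,[34],[134,166,231]),(230,[32],[129,165,230]),(229,[29],[125,164,229]),(228,[25],[122,163,228]),(227,[20],[120,162,227]),(226,[240],[220,226]),(225,[0],[43,47,56,145,149,152,225]),(224,[33],[133,138,224]),(223,[31],[128,137,223]),(222,[28],[124,136,222]),(221,[24],[121,135,221]),(220,[242],[216,220]),(219,[12],[77,119,219]),(218,[30],[127,131,218]),(217,[27],[123,130,217]),(216,[243],[213,216]),(215,[18],[104,118,215]),(214,[11],[76,117,214]),(213,[241],[213]),(212,[22],[109,116,212]),(211,[17]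,[103,115,211]),(210,[10],[75,114,210]),(209,[21],[108,112,209]),(208,[16],[102,111,208]),(207,[9],[74,110,207]),(206,[15],[101,106,206]),(205,[8],[73,105,205]),(204,[7],[72,99,204]),(203,[98],[203]),(202,[97],[202]),(201,[92],[201]),(200,[70],[200]),(199,[96],[199]),(198,[91],[198]),(197,[69],[197]),(196,[14,87],[87,90,94,196]),(195,[6,65],[65,68,93,195]),(194,[5,55],[55,67,88,194]),(193,[95],[193]),(192,[14,90],[87,90,94,192]),(191,[6,68],[65,68,93,191]),(190,[86],[190]),(189,[64],[189]),(188,[4,54],[54,63,84,188]),(187,[83],[187]),(186,[61],[186]),(185,[3,51],[51,60,81,185]),(184,[2,45],[45,58,79,184]),(183,[14,94],[87,90,94,183]),(182,[89],[182]),(181,[5,67],[55,67,88,181]),(180,[85],[180]),(179,[4,63],[54,63,84,179]),(178,[53],[178]),(177,[82],[177]),(176,[3,60],[51,60,81,176]),(175,[50],[175]),(174,[1,44],[44,48,78,174]),(173,[80],[173]),(172,[2,58],[45,58,79,172]),(17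1,[1,48],[44,48,78,171]),(170,[42],[170]),(169,[39],[169]),(167,[35,140],[140,167]),(166,[34,134],[134,166]),(165,[32,129],[129,165]),(164,[29,125],[125,164]),(163,[25,122],[122,163]),(162,[20,120],[120,162]),(161,[6,93],[65,68,93,161]),(160,[5,88],[55,67,88,160]),(159,[66],[159]),(158,[4,84],[54,63,84,158]),(157,[62],[157]),(156,[52],[156]),(155,[3,81],[51,60,81,155]),(154,[59],[154]),(153,[49],[153]),(152,[0,43],[43,47,56,152]),(151,[2,79],[45,58,79,151]),(150,[57],[150]),(149,[0,47],[43,47,56,149]),(148,[41],[148]),(147,[38],[147]),(146,[1,78],[44,48,78,146]),(145,[0,56],[43,47,56,145]),(144,[46],[144]),(143,[40],[143]),(142,[37],[142]),(141,[36],[141]),(138,[33,133],[133,138]),(137,[31,128],[128,137]),(136,[28,124],[124,136]),(135,[24,121],[121,135]),(131,[30,127],[127,131]),(130,[27,123],[123,130]),(119,[12,77],[77,119]),(118,[18,104],[104,118]),(117,[11,76],[76,117]),(116,[22,109],[109,116]),(115,[17,103],[103,115]),(114,[10,75],[75,114]),(112,[21,108],[108,112]),(111,[16,102],[102,111]),(110,[9,74],[74,110]),(106,[15,101],[101,106]),(105,[8,73],[73,105]),(99,[7,72],[72,99]),(247,[241,242,243,19],[240,242,244,246,247]),(246,[240,241,242,243,13],[242,244,246]),(245,[240,241,13,19,26],[243,244,245]),(244,[240,241,243,13,19,23],[244])]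

theorem chkUpE83 : chkUp digE8.tbl [226,220,213,216] rCE83 rFE83 = true := by decide +kernel

theorem chkLoE83 : chkLo digE8.tbl [226,220,213,216] rEE83 = true := by decide +kernel

/-- The ranks of the representatives. -/
def rkE8 (rep : List ℕ) : ℕ := if rep = [239] then 58 else if rep = [232,233] then 92 else if rep = [228,222,218] then 110 else 120

theorem rankE80 {F : Type*} [Field F] [CharP F 2] : (mL chevE8 F [239]).rank = 58 := by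
  have hL : ∀ r ∈ ([239] : List ℕ), r < chevE8.nroots := by decide +kernel
  have h1 := good3E8.toGood2.rank_le (F := F) hL chkUpE80
  have h2 := good3E8.toGood2.rank_ge (F := F) hL chkLoE80
  have e1 : rCE80.length = 58 := by decide +kernel
  have e2 : rEE80.length = 58 := by decide +kernel
  omega

theorem rankE81 {F : Type*} [Field F] [CharP F 2] : (mL chevE8 F [232,233]).rank = 92 := by
  have hL : ∀ r ∈ ([232,233] : List ℕ), r < chevE8.nroots := by decide +kernel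
  have h1 := good3E8.toGood2.rank_le (F := F) hL chkUpE81
  have h2 := good3E8.toGood2.rank_ge (F := F) hL chkLoE81
  have e1 : rCE81.length = 92 := by decide +kernel
  have e2 : rEE81.length = 92 := by decide +kernel
  omega

theorem rankE82 {F : Type*} [Field F] [CharP F 2] : (mL chevE8 F [228,222,218]).rank = 110 := by
  have hL : ∀ r ∈ ([228,222,218] : List ℕ), r < chevE8.nroots := by decide +kernel
  have h1 := good3E8.toGood2.rank_le (F := F) hL chkUpE82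
  have h2 := good3E8.toGood2.rank_ge (F := F) hL chkLoE82
  have e1 : rCE82.length = 110 := by decide +kernel
  have e2 : rEE82.length = 110 := by decide +kernel
  omega

theorem rankE83 {F : Type*} [Field F] [CharP F 2] : (mL chevE8 F [226,220,213,216]).rank = 120 := by
  have hL : ∀ r ∈ ([226,220,213,216] : List ℕ), r < chevE8.nroots := by decide +kernel
  have h1 := good3E8.toGood2.rank_le (F := F) hL chkUpE83
  have h2 := good3E8.toGood2.rank_ge (F := F) hL chkLoE83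
  have e1 : rCE83.length = 120 := by decide +kernel
  have e2 : rEE83.length = 120 := by decide +kernel
  omega

theorem hrkE8 {F : Type*} [Field F] [CharP F 2] : ∀ rep ∈ repsE8, (mL chevE8 F rep).rank = rkE8 rep ∧ 0 < rkE8 rep := by
  intro rep hrep
  simp only [repsE8, List.mem_cons, List.not_mem_nil, or_false] at hrep
  rcases hrep with rfl | rfl | rfl | rfl
  · exact ⟨rankE80, by decide⟩
  · exact ⟨rankE81, by decide⟩
  · exact ⟨rankE82, by decide⟩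
  · exact ⟨rankE83, by decide⟩

theorem hrepsE8 : ∀ rep ∈ repsE8, (∀ r ∈ rep, r < chevE8.nroots) ∧ rep.Pairwise (Or2 chevE8) := by
  decide +kernel

theorem hinjE8 : ∀ a ∈ repsE8, ∀ b ∈ repsE8, rkE8 a = rkE8 b → a = b := by
  decide +kernel

theorem hconjE8 {F : Type*} [Field F] [Finite F] [CharP F 2] :
    ∀ v ∈ chevE8.group F, v * v = 1 → v ≠ 1 → ∃ rep ∈ repsE8, ∃ h ∈ chevE8.group F, h * v * h⁻¹ = good3E8.toGood2.xL rep := by
  intro v hv h2 h1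
  have hG := good3E8.toGood2
  have hn : chevE8.nroots / 2 < chevE8.nroots := by decide +kernel
  exact inv_conj_rep good3E8 (hG.slFacts _ hn chkSLE8) (hG.treeFacts chkTFE8) repsE8 frE8 frE8' gwE8 chkWE8 chkCCE8
    (by decide +kernel) (by decide +kernel) (by decide +kernel) (by decide +kernel) _ 9 chkTreeE8
    (fun A hA => Tbl.Good2.nodeOK_spec hA good3E8.correct.l_eq) hv h2 h1

/-- The classes of involutions in type E8 in characteristic two. -/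
theorem main3E8 {F : Type*} [Field F] [Fintype F] [CharP F 2] :
    (∀ y : GL chevE8.Idx F, (y : Matrix chevE8.Idx chevE8.Idx F) ∈ repsE8.map (fun rep => chevE8.wordMat F (rep.map fun r => (r, (1 : F)))) →
        y ∈ chevE8.group F ∧ orderOf y = 2) ∧
    (∀ g ∈ chevE8.group F, orderOf g = 2 → ∃ y ∈ chevE8.group F,
        (y : Matrix chevE8.Idx chevE8.Idx F) ∈ repsE8.map (fun rep => chevE8.wordMat F (rep.map fun r => (r, (1 : F)))) ∧
        ∃ h ∈ chevE8.group F, h * g * h⁻¹ = y) ∧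
    (∀ y₁ ∈ chevE8.group F, ∀ y₂ ∈ chevE8.group F,
        (y₁ : Matrix chevE8.Idx chevE8.Idx F) ∈ repsE8.map (fun rep => chevE8.wordMat F (rep.map fun r => (r, (1 : F)))) →
        (y₂ : Matrix chevE8.Idx chevE8.Idx F) ∈ repsE8.map (fun rep => chevE8.wordMat F (rep.map fun r => (r, (1 : F)))) →
        (∃ h ∈ chevE8.group F, h * y₁ * h⁻¹ = y₂) → (y₁ : Matrix chevE8.Idx chevE8.Idx F) = (y₂ : Matrix chevE8.Idx chevE8.Idx F)) :=
  final_three good3E8.toGood2 (good3E8.toGood2.treeFacts chkTFE8) repsE8 hrepsE8 rkE8 hrkE8 hinjE8 hconjE8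

/-- The number of classes of involutions in type E8 in characteristic two. -/
theorem countE8 {F : Type*} [Field F] [Fintype F] [CharP F 2] :
    (ConjClasses.mk '' {g : ↥(chevE8.group F) | orderOf g = 2}).ncard = repsE8.length :=
  final_count good3E8.toGood2 (good3E8.toGood2.treeFacts chkTFE8) repsE8 (by decide +kernel) hrepsE8 rkE8 hrkE8 hinjE8 hconjE8

end Cfsg.Agent.Lib.Chev
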